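/-
Normal elementary abelian 2-subgroups of a group with a class of 3-transpositions, seen as modules.

Main results:
* `IsW A d w` : `w` is a commutator of `d` with an element of `A`
* `IsW.eq_one_of_not_commute` : non-commuting members have trivially meeting commutator subgroups
* `IsW.eq_one_of_not_vRel` : so do members which do not commute with the same members
* `commute_of_image` : members with commuting, different images commute
* `image_class` : the image of a class of 3-transpositions
-/
import Cfsg.Agent.Lib.ThreeTrans.Central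

namespace Cfsg.Agent.ThreeTransUnique

open Cfsg Cfsg.Agent.ThreeTrans

variable {G : Type*} [Group G] {D : Set G}

/-- A normal subgroup in which all elements commute and square to one. -/
structure Elem2 (A : Subgroup G) : Prop where
  normal : A.Normal
  comm : ∀ x ∈ A, ∀ y ∈ A, Commute x y
  sq : ∀ x ∈ A, x * x = 1

theorem Elem2.inv_eq {A : Subgroup G} (hA : Elem2 A) {x : G} (hx : x ∈ A) : x⁻¹ = x :=
  inv_eq_of_mul_eq_one_left (hA.sq x hx)

theorem Elem2.conj_mem {A : Subgroup G} (hA : Elem2 A) (g : G) {x : G} (hx : x ∈ A) :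
    g * x * g⁻¹ ∈ A :=
  hA.normal.conj_mem x hx g

theorem Elem2.conj_mem' {A : Subgroup G} (hA : Elem2 A) {d : G} (hd : d * d = 1) {x : G}
    (hx : x ∈ A) : d * x * d ∈ A := by
  have h := hA.conj_mem d hx
  rwa [inv_eq_of_mul_eq_one_left hd] at h

theorem Elem2.le_pCore [Finite G] {A : Subgroup G} (hA : Elem2 A) : A ≤ pCore 2 G := by
  have : Fact (Nat.Prime 2) := ⟨Nat.prime_two⟩
  refine Cores.le_pCore hA.normal fun x => ⟨1, Subtype.ext ?_⟩
  simpa [pow_two] using hA.sq x x.2

/-- `w` is a commutator of `d` with an element of `A`. -/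
def IsW (A : Subgroup G) (d w : G) : Prop := ∃ r ∈ A, w = r * (d * r * d)

namespace IsW

variable {A : Subgroup G}

theorem mem (hA : Elem2 A) {d w : G} (hd : d * d = 1) (h : IsW A d w) : w ∈ A := by
  obtain ⟨r, hr, rfl⟩ := h
  exact mul_mem hr (hA.conj_mem' hd hr)

theorem commute_self (hA : Elem2 A) {d w : G} (hd : d * d = 1) (h : IsW A d w) : Commute d w := by
  obtain ⟨r, hr, rfl⟩ := h
  have e := (hA.comm r hr _ (hA.conj_mem' hd hr)).eq
  show d * (r * (d * r * d)) = r * (d * r * d) * d
  calc d * (r * (d * r * d)) = (d * r * d) * r * d := by simp only [mul_assoc]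
    _ = _ := by rw [e]

theorem one (A : Subgroup G) {d : G} (hd : d * d = 1) : IsW A d 1 :=
  ⟨1, one_mem _, by simp [hd]⟩

theorem mul (hA : Elem2 A) {d v w : G} (hd : d * d = 1) (hv : IsW A d v) (hw : IsW A d w) :
    IsW A d (v * w) := by
  obtain ⟨r, hr, rfl⟩ := hv
  obtain ⟨s, hs, rfl⟩ := hw
  refine ⟨r * s, mul_mem hr hs, ?_⟩
  have e := (hA.comm _ (hA.conj_mem' hd hr) s hs).eq
  calc r * (d * r * d) * (s * (d * s * d)) = r * ((d * r * d) * s) * (d * s * d) := by
        simp only [mul_assoc]
    _ = r * (s * (d * r * d)) * (d * s * d) := by rw [e]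
    _ = r * s * (d * r * ((d * d) * (s * d))) := by simp only [mul_assoc]
    _ = r * s * (d * (r * s) * d) := by rw [hd, one_mul]; simp only [mul_assoc]

theorem conj (hA : Elem2 A) {d w : G} (h : IsW A d w) (g : G) :
    IsW A (g * d * g⁻¹) (g * w * g⁻¹) := by
  obtain ⟨r, hr, rfl⟩ := h
  exact ⟨g * r * g⁻¹, hA.conj_mem g hr, by group⟩

theorem conj_inv {d w y : G} (hA : Elem2 A) (hy : y * y = 1) (h : IsW A d w) :
    IsW A (y * d * y) (y * w * y) := by
  have := h.conj hA y
  rwa [inv_eq_of_mul_eq_one_left hy] at this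

/-- A commutator of `d` with `A` is a product of `d` and a conjugate of `d`. -/
theorem eq_mul (hD : IsThreeTranspositionGroup D) (hA : Elem2 A) {d w : G} (hd : d ∈ D)
    (h : IsW A d w) : ∃ d' ∈ D, d⁻¹ * d' ∈ A ∧ w = d' * d := by
  obtain ⟨r, hr, rfl⟩ := h
  refine ⟨r * d * r⁻¹, hD.2.1 r d hd, ?_, ?_⟩
  · have := mul_mem (hA.conj_mem' (mul_self hD.1 hd) hr) (inv_mem hr)
    simpa [ThreeTrans.inv_eq hD.1 hd, mul_assoc] using this
  · rw [hA.inv_eq hr]; simp only [mul_assoc]

/-- Members commuting with `d` centralise its commutators. -/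
theorem commute_of_commute [Finite G] (hD : IsThreeTranspositionGroup D) (hA : Elem2 A)
    {d f w : G} (hd : d ∈ D) (hf : f ∈ D) (hdf : Commute d f) (h : IsW A d w) : Commute f w := by
  obtain ⟨d', hd', hmem, rfl⟩ := h.eq_mul hD hA hd
  exact (vRel_imp hD.1 hd hd' hf (hA.le_pCore hmem) hdf).symm.mul_right hdf.symm

/-- Non-commuting members have no common commutator. -/
theorem eq_one_of_not_commute (hD : IsThreeTranspositionGroup D) (hA : Elem2 A) {d x w : G}
    (hd : d ∈ D) (hx : x ∈ D) (hdx : ¬ Commute d x) (hw : IsW A d w) (hw' : IsW A x w) :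
    w = 1 := by
  have cd := hw.commute_self hA (mul_self hD.1 hd)
  have cx := hw'.commute_self hA (mul_self hD.1 hx)
  have h3 := pow_three_of_not_commute hD.1 hd hx hdx
  have h2w : w ^ 2 = 1 := by rw [pow_two]; exact hA.sq w (hw.mem hA (mul_self hD.1 hd))
  obtain ⟨x', hx', -, e⟩ := hw'.eq_mul hD hA hx
  have hx'e : x * w = x' := by
    rw [cx.eq, e, mul_assoc, mul_self hD.1 hx, mul_one]
  have cg : Commute (d * x) w := cd.mul_left cx
  rcases hD.1.2 d hd x' hx' with h | h <;> rw [← hx'e, ← mul_assoc, cg.mul_pow] at h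
  · exfalso
    rw [h2w, mul_one] at h
    exact hdx ((commute_iff_sq hD.1 hd hx).2 h)
  · rwa [h3, one_mul, pow_succ, h2w, one_mul] at h

/-- A commutator of `d` fixed by a member not commuting with `d` is trivial. -/
theorem eq_one_of_fixed (hD : IsThreeTranspositionGroup D) (hA : Elem2 A) {d x w : G}
    (hd : d ∈ D) (hx : x ∈ D) (hdx : ¬ Commute d x) (hw : IsW A d w) (hf : Commute x w) :
    w = 1 := by
  have hxx := mul_self hD.1 hx
  have h' := hw.conj_inv hA hxx
  rw [hf.eq, mul_assoc w x x, hxx, mul_one] at h'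
  refine eq_one_of_not_commute hD hA hd (ThreeTrans.conj_mem hD.1 hD.2.1 hx hd) ?_ hw h'
  rw [← braid hD.1 hd hx hdx]
  intro hc
  apply hdx
  have h4 := hc.map (MulAut.conj d).toMonoidHom
  simpa [ThreeTrans.inv_eq hD.1 hd, mul_assoc, mul_self hD.1 hd, mul_self_cancel hD.1 hd] using h4

/-- Members which do not commute with the same members have no common commutator. -/
theorem eq_one_of_not_vRel [Finite G] (hD : IsThreeTranspositionGroup D) (hA : Elem2 A)
    {d e w : G} (hd : d ∈ D) (he : e ∈ D) (h : ¬ VRel D d e) (hw : IsW A d w) (hw' : IsW A e w) :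
    w = 1 := by
  by_cases hde : Commute d e
  · obtain ⟨y, hy, hy'⟩ : ∃ y ∈ D, ¬ (Commute e y ↔ Commute d y) := by
      by_contra hcon
      exact h fun y hy => by_contra fun hne => hcon ⟨y, hy, hne⟩
    by_cases hey : Commute e y
    · exact eq_one_of_fixed hD hA hd hy (fun hdy => hy' (iff_of_true hey hdy)) hw
        (hw'.commute_of_commute hD hA he hy hey)
    · exact eq_one_of_fixed hD hA he hy hey hw'
        (hw.commute_of_commute hD hA hd hy (by_contra fun hdy => hy' (iff_of_false hey hdy)))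
  · exact eq_one_of_not_commute hD hA hd he hde hw hw'

end IsW

/-- A member outside the kernel has a non-trivial commutator. -/
theorem exists_isW_ne_one {A : Subgroup G} (hA : Elem2 A) {d : G} (hd : d * d = 1)
    (h : ∃ r ∈ A, ¬ Commute d r) : ∃ w, IsW A d w ∧ w ≠ 1 := by
  obtain ⟨r, hr, hne⟩ := h
  refine ⟨_, ⟨r, hr, rfl⟩, fun h1 => hne ?_⟩
  have h2 : d * r * d = r := by
    have h3 : d * r * d * r = 1 := by rw [← (hA.comm r hr _ (hA.conj_mem' hd hr)).eq]; exact h1
    rw [eq_inv_of_mul_eq_one_left h3, hA.inv_eq hr]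
  show d * r = r * d
  calc d * r = d * r * (d * d) := by rw [hd, mul_one]
    _ = d * r * d * d := by simp only [mul_assoc]
    _ = r * d := by rw [h2]

/-- Members with commuting, different images commute. -/
theorem commute_of_image {H : Type*} [Group H] (π : G →* H) (hD : IsThreeTranspositionSet D)
    {d e : G} (hd : d ∈ D) (he : e ∈ D) (hc : Commute (π d) (π e)) (hne : π d ≠ π e) :
    Commute d e := by
  by_contra h
  apply hne
  have h3 : (π d * π e) ^ 3 = 1 := by
    rw [← map_mul, ← map_pow, pow_three_of_not_commute hD hd he h, map_one]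
  have h2 : (π d * π e) ^ 2 = 1 := by
    rw [hc.mul_pow, ← map_pow, ← map_pow, pow_two, pow_two, mul_self hD hd, mul_self hD he,
      map_one, mul_one]
  rw [eq_inv_of_mul_eq_one_left (eq_one_of_pow_coprime h2 h3 (by norm_num)), ← map_inv,
    inv_eq hD he]

/-- Members commuting modulo an elementary abelian 2-subgroup commute. -/
theorem commute_of_image_elem (hD : IsThreeTranspositionSet D) {A : Subgroup G} [A.Normal]
    (hA : Elem2 A) {d e : G} (hd : d ∈ D) (he : e ∈ D)
    (hc : Commute (QuotientGroup.mk' A d) (QuotientGroup.mk' A e)) : Commute d e := by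
  by_cases hne : QuotientGroup.mk' A d = QuotientGroup.mk' A e
  · rw [commute_iff_sq hD hd he, pow_two]
    apply hA.sq
    have := QuotientGroup.eq.1 hne
    rwa [inv_eq hD hd] at this
  · exact commute_of_image _ hD hd he hc hne

/-- A normal subgroup containing a member is everything. -/
theorem normal_eq_top (hD : IsThreeTranspositionClass D) (N : Subgroup G) [N.Normal] {d : G}
    (hd : d ∈ D) (hdN : d ∈ N) : N = ⊤ := by
  rw [eq_top_iff, ← hD.2.2, Subgroup.closure_le]
  intro e he
  obtain ⟨g, rfl⟩ := class_conj hD hd he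
  exact Subgroup.Normal.conj_mem inferInstance d hdN g

/-- The image of a class of 3-transpositions with no member in the kernel. -/
theorem image_class {H : Type*} [Group H] (π : G →* H) (hπ : Function.Surjective π)
    (hD : IsThreeTranspositionClass D) (hne : ∀ d ∈ D, π d ≠ 1) :
    IsThreeTranspositionClass (π '' D) := by
  obtain ⟨hs, ⟨d, hd, -⟩, hgen⟩ := id hD
  refine ⟨⟨?_, ?_⟩, ⟨π d, ⟨d, hd, rfl⟩, ?_⟩, ?_⟩
  · rintro _ ⟨x, hx, rfl⟩
    exact orderOf_eq_prime (by rw [← map_pow, pow_two, mul_self hs hx, map_one]) (hne x hx)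
  · rintro _ ⟨x, hx, rfl⟩ _ ⟨y, hy, rfl⟩
    rcases hs.2 x hx y hy with h | h
    · left; rw [← map_mul, ← map_pow, h, map_one]
    · right; rw [← map_mul, ← map_pow, h, map_one]
  · ext q
    constructor
    · rintro ⟨x, hx, rfl⟩
      obtain ⟨g, hg⟩ := class_conj hD hd hx
      exact isConj_iff.2 ⟨π g, map_conj_eq _ hg⟩
    · intro h
      obtain ⟨g, hg⟩ := isConj_iff.1 (show IsConj (π d) q from h)
      obtain ⟨g, rfl⟩ := hπ g
      exact ⟨g * d * g⁻¹, (group_of_class hD).2.1 g d hd, by rw [← hg, map_mul, map_mul, map_inv]⟩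
  · rw [← MonoidHom.map_closure, hgen, Subgroup.map_top_of_surjective _ hπ]

end Cfsg.Agent.ThreeTransUnique
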