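/-
The sum over an element of order three attached to two non-commuting members, and fixed-point-free
automorphisms of order three of an elementary abelian 2-group.

Main results:
* `S3` : `v * gvg⁻¹ * g⁻¹vg`
* `isW_mul_S3` : a vector fixed by `d` differs from its sum by a commutator of `d`
* `four_line` : two commuting automorphisms with three fixed-point-free combinations
-/
import Cfsg.Agent.Lib.ThreeTransUnique.Module

namespace Cfsg.Agent.ThreeTransUnique

open Cfsg Cfsg.Agent.ThreeTrans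

variable {G : Type*} [Group G] {D : Set G} {A : Subgroup G}

/-- The sum over an element of order three. -/
def S3 (g v : G) : G := v * (g * v * g⁻¹) * (g⁻¹ * v * g)

theorem S3_mem (hA : Elem2 A) (g : G) {v : G} (hv : v ∈ A) : S3 g v ∈ A :=
  mul_mem (mul_mem hv (hA.conj_mem g hv)) (by simpa using hA.conj_mem g⁻¹ hv)

theorem S3_mul (hA : Elem2 A) (g : G) {v w : G} (hv : v ∈ A) (hw : w ∈ A) :
    S3 g (v * w) = S3 g v * S3 g w := by
  have m1 : g * v * g⁻¹ ∈ A := hA.conj_mem g hv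
  have m1' : g * w * g⁻¹ ∈ A := hA.conj_mem g hw
  have m2 : g⁻¹ * v * g ∈ A := by simpa using hA.conj_mem g⁻¹ hv
  have e1 : g * (v * w) * g⁻¹ = (g * v * g⁻¹) * (g * w * g⁻¹) := by group
  have e2 : g⁻¹ * (v * w) * g = (g⁻¹ * v * g) * (g⁻¹ * w * g) := by group
  unfold S3
  rw [e1, e2]
  generalize g * v * g⁻¹ = v1 at m1 ⊢
  generalize g * w * g⁻¹ = w1 at m1' ⊢
  generalize g⁻¹ * v * g = v2 at m2 ⊢
  generalize g⁻¹ * w * g = w2
  calc v * w * (v1 * w1) * (v2 * w2) = v * (w * v1) * (w1 * v2) * w2 := by simp only [mul_assoc]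
    _ = v * (v1 * w) * (v2 * w1) * w2 := by rw [(hA.comm w hw v1 m1).eq, (hA.comm w1 m1' v2 m2).eq]
    _ = v * v1 * (w * v2) * (w1 * w2) := by simp only [mul_assoc]
    _ = v * v1 * (v2 * w) * (w1 * w2) := by rw [(hA.comm w hw v2 m2).eq]
    _ = _ := by simp only [mul_assoc]

theorem commute_S3 (hA : Elem2 A) {g : G} (hg : g ^ 3 = 1) {v : G} (hv : v ∈ A) :
    Commute g (S3 g v) := by
  have hgg : g * g = g⁻¹ := eq_inv_of_mul_eq_one_left (by rw [← hg]; simp [pow_succ, mul_assoc])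
  have m1 : g * v * g⁻¹ ∈ A := hA.conj_mem g hv
  have m2 : g⁻¹ * v * g ∈ A := by simpa using hA.conj_mem g⁻¹ hv
  have e : g * S3 g v * g⁻¹ = S3 g v := by
    have e2 : g * (g * v * g⁻¹) * g⁻¹ = g⁻¹ * v * g := by
      calc g * (g * v * g⁻¹) * g⁻¹ = (g * g) * v * (g * g)⁻¹ := by group
        _ = _ := by rw [hgg, inv_inv]
    calc g * S3 g v * g⁻¹ = (g * v * g⁻¹) * (g * (g * v * g⁻¹) * g⁻¹) * v := by unfold S3; group
      _ = v * ((g * v * g⁻¹) * (g⁻¹ * v * g)) := by
          rw [e2, (hA.comm _ (mul_mem m1 m2) v hv).eq]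
      _ = _ := by unfold S3; simp only [mul_assoc]
  show g * S3 g v = S3 g v * g
  calc g * S3 g v = g * S3 g v * g⁻¹ * g := by group
    _ = _ := by rw [e]

/-- An involution inverting `g` conjugates the sum to the sum of the conjugate. -/
theorem conj_S3 (hA : Elem2 A) {g x : G} (hx : x * x = 1) (hxg : x * g * x = g⁻¹) {v : G}
    (hv : v ∈ A) : x * S3 g v * x = S3 g (x * v * x) := by
  have hxi : x⁻¹ = x := inv_eq_of_mul_eq_one_left hx
  have hxg' : x * g⁻¹ * x = g := by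
    have := congrArg (fun z => z⁻¹) hxg
    simpa [mul_inv_rev, hxi, mul_assoc] using this
  have hm := hA.conj_mem' hx hv
  have e : x * S3 g v * x = (x * v * x) * ((x * g * x) * (x * v * x) * (x * g⁻¹ * x)) *
      ((x * g⁻¹ * x) * (x * v * x) * (x * g * x)) := by
    unfold S3
    simp only [mul_assoc]
    simp only [← mul_assoc x x, hx, one_mul]
  rw [e, hxg, hxg']
  unfold S3
  have m1 : g * (x * v * x) * g⁻¹ ∈ A := hA.conj_mem g hm
  have m2 : g⁻¹ * (x * v * x) * g ∈ A := by simpa using hA.conj_mem g⁻¹ hm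
  generalize g * (x * v * x) * g⁻¹ = v1 at m1 ⊢
  generalize g⁻¹ * (x * v * x) * g = v2 at m2 ⊢
  rw [mul_assoc (x * v * x), (hA.comm _ m2 _ m1).eq, ← mul_assoc]

variable (hD : IsThreeTranspositionSet D) {d x : G} (hd : d ∈ D) (hx : x ∈ D)
include hD hd hx

theorem conj_line_left : d * (d * x) * d = (d * x)⁻¹ := by
  rw [mul_inv_rev, inv_eq hD hd, inv_eq hD hx, mul_self_cancel hD hd]

theorem conj_line_right : x * (d * x) * x = (d * x)⁻¹ := by
  rw [mul_inv_rev, inv_eq hD hd, inv_eq hD hx]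
  simp only [mul_assoc, mul_self hD hx, mul_one]

theorem commute_S3_left (hA : Elem2 A) {v : G} (hv : v ∈ A) (hdv : Commute d v) :
    Commute d (S3 (d * x) v) := by
  have hdd := mul_self hD hd
  have h := conj_S3 hA hdd (conj_line_left hD hd hx) hv
  rw [hdv.eq, mul_assoc v d d, hdd, mul_one] at h
  exact commute_of_conj_eq hD hd h

theorem commute_S3_right (hA : Elem2 A) (h3 : (d * x) ^ 3 = 1) {v : G} (hv : v ∈ A)
    (hdv : Commute d v) : Commute x (S3 (d * x) v) := by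
  have e : x = d * (d * x) := (mul_self_cancel hD hd x).symm
  have h := (commute_S3_left hD hd hx hA hv hdv).mul_left (commute_S3 hA h3 hv)
  rwa [← e] at h

/-- A vector fixed by `d` differs from its sum by a commutator of `d`. -/
theorem isW_mul_S3 (hA : Elem2 A) {v : G} (hv : v ∈ A) (hdv : Commute d v) :
    IsW A d (v * S3 (d * x) v) := by
  set g := d * x with hg
  have hdd := mul_self hD hd
  refine ⟨g * v * g⁻¹, hA.conj_mem g hv, ?_⟩
  have hdg : d * g * d = g⁻¹ := conj_line_left hD hd hx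
  have hdg' : d * g⁻¹ * d = g := by
    have := congrArg (fun z => z⁻¹) hdg
    simpa [mul_inv_rev, inv_eq hD hd, mul_assoc] using this
  have e : d * (g * v * g⁻¹) * d = g⁻¹ * v * g := by
    calc d * (g * v * g⁻¹) * d = (d * g * d) * (d * v * d) * (d * g⁻¹ * d) := by
          simp only [mul_assoc]
          simp only [← mul_assoc d d, hdd, one_mul]
      _ = _ := by rw [hdg, hdg', hdv.eq, mul_assoc v d d, hdd, mul_one]
  rw [e]
  unfold S3
  generalize g * v * g⁻¹ = v1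
  generalize g⁻¹ * v * g = v2
  rw [← mul_assoc, ← mul_assoc, hA.sq v hv, one_mul]

omit hD hd hx

/-- `r * u r * u⁻¹ r = 1` for every `r`. -/
def FpThree {V : Type*} [Group V] (u : MulAut V) : Prop := ∀ r : V, r * u r * u⁻¹ r = 1

theorem four_line {V : Type*} [CommGroup V] (h2 : ∀ v : V, v * v = 1) {g c : MulAut V}
    (hgc : Commute g c) (h0 : FpThree g) (h1 : FpThree (g * c)) (h1' : FpThree (g * c⁻¹)) (r : V) :
    r * c r * c⁻¹ r = r := by
  have e1 := h1 r
  have e1' := h1' r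
  have eT := h0 (r * c r * c⁻¹ r)
  rw [mul_inv_rev, ← (hgc.inv_inv).eq] at e1
  rw [mul_inv_rev, inv_inv, ← (hgc.inv_left).eq] at e1'
  simp only [MulAut.mul_apply] at e1 e1'
  simp only [map_mul] at eT
  set T := r * c r * c⁻¹ r
  have e : (r * g r * g⁻¹ r) * (r * g (c r) * g⁻¹ (c⁻¹ r)) * (r * g (c⁻¹ r) * g⁻¹ (c r)) =
      (r * r) * (r * (g r * g (c r) * g (c⁻¹ r)) * (g⁻¹ r * g⁻¹ (c r) * g⁻¹ (c⁻¹ r))) := by
    ac_rfl
  rw [h0 r, e1, e1', one_mul, one_mul, h2, one_mul] at e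
  have e2 : T * (r * (g r * g (c r) * g (c⁻¹ r)) * (g⁻¹ r * g⁻¹ (c r) * g⁻¹ (c⁻¹ r))) =
      r * (T * (g r * g (c r) * g (c⁻¹ r)) * (g⁻¹ r * g⁻¹ (c r) * g⁻¹ (c⁻¹ r))) := by ac_rfl
  rwa [← e, mul_one, eT, mul_one] at e2

end Cfsg.Agent.ThreeTransUnique
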