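/-
One descent step: two classes of 3-transpositions which agree up to a central element modulo a
minimal normal subgroup `R`.

Main results:
* `Twist D E` : `E` is `D` times a central element of order at most two
* `Step.twist_of_central` : the step for central `R`
* `Step.twist_of_odd` : the step for `R` of odd exponent
-/
import Cfsg.Agent.Lib.ThreeTransUnique.Module

namespace Cfsg.Agent.ThreeTransUnique

open Cfsg Cfsg.Agent.ThreeTrans

variable {G : Type*} [Group G] {D E : Set G} {R : Subgroup G} {d α : G}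

/-- The second class is the first one times a central element of order at most two. -/
def Twist (D E : Set G) : Prop := ∃ z ∈ Subgroup.center G, z * z = 1 ∧ ∀ a ∈ E, a * z ∈ D

theorem twist_of_mem (hD : IsThreeTranspositionClass D) (hE : IsThreeTranspositionClass E)
    {a z : G} (ha : a ∈ E) (hz : z ∈ Subgroup.center G) (hz2 : z * z = 1) (h : a * z ∈ D) :
    Twist D E := by
  refine ⟨z, hz, hz2, fun b hb => ?_⟩
  obtain ⟨g, rfl⟩ := class_conj hE ha hb
  have e : g * a * g⁻¹ * z = g * (a * z) * g⁻¹ := by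
    rw [mul_assoc (g * a) g⁻¹ z, Subgroup.mem_center_iff.1 hz g⁻¹]; simp only [mul_assoc]
  rw [e]
  exact (group_of_class hD).2.1 g _ h

/-- The data of one descent step. -/
structure Step (D E : Set G) (R : Subgroup G) (d α : G) : Prop where
  classD : IsThreeTranspositionClass D
  classE : IsThreeTranspositionClass E
  normal : R.Normal
  comm : ∀ x ∈ R, ∀ y ∈ R, Commute x y
  min : ∀ K : Subgroup G, K.Normal → K ≤ R → K = ⊥ ∨ K = R
  mem : d ∈ D
  memE : d * α ∈ E
  cen : ∀ g, g * α * g⁻¹ * α⁻¹ ∈ R
  sq : α * α ∈ R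
  outD : ∀ x ∈ D, x ∉ R
  outE : ∀ x ∈ E, x ∉ R

namespace Step

variable (S : Step D E R d α)
include S

theorem dd : d * d = 1 := mul_self S.classD.1 S.mem

theorem conj_alpha : d * α * d = α⁻¹ := by
  refine eq_inv_of_mul_eq_one_left ?_
  have h := mul_self S.classE.1 S.memE
  calc d * α * d * α = d * α * (d * α) := by simp only [mul_assoc]
    _ = 1 := h

/-- Every member of the first class has a partner in the second one. -/
theorem partner {x : G} (hx : x ∈ D) : ∃ β, x * β ∈ E ∧ β * α⁻¹ ∈ R := by
  obtain ⟨g, rfl⟩ := class_conj S.classD S.mem hx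
  refine ⟨g * α * g⁻¹, ?_, S.cen g⟩
  have := (group_of_class S.classE).2.1 g _ S.memE
  simpa [mul_assoc] using this

/-- If `R` is central, so is `α`. -/
theorem twist_of_central (hc : R ≤ Subgroup.center G) : Twist D E := by
  have hg := group_of_class S.classD
  have hcomm : ∀ e ∈ D, Commute e α := by
    intro e he
    by_cases hec : ∀ x ∈ D, Commute x e
    · exact (Subgroup.mem_center_iff.1 (commute_all_of_gen S.classD.2.2 hec) α).symm
    obtain ⟨x, hx, hxe⟩ : ∃ x ∈ D, ¬ Commute x e := by
      by_contra h; exact hec fun x hx => by_contra fun hn => h ⟨x, hx, hn⟩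
    set r := α * e * α⁻¹ * e⁻¹ with hr
    have hrR : r ∈ R := by
      have := inv_mem (S.cen e)
      have e1 : r = (e * α * e⁻¹ * α⁻¹)⁻¹ := by rw [hr]; group
      rwa [e1]
    have hrc : ∀ g, Commute g r := fun g => Subgroup.mem_center_iff.1 (hc hrR) g
    have he' : r * e ∈ D := by
      have e1 : r * e = α * e * α⁻¹ := by rw [hr, inv_mul_cancel_right]
      rw [e1]; exact hg.2.1 α e he
    have hee := mul_self hg.1 he
    -- `r e` commutes with `e`
    have h2 : r ^ 2 = 1 := by
      have hc2 : Commute (r * e) e := (hrc e).symm.mul_left (Commute.refl e)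
      have h := (commute_iff_sq hg.1 he' he).1 hc2
      rwa [mul_assoc, hee, mul_one] at h
    have h3 : r ^ 3 = 1 := by
      have hn : ¬ Commute x (r * e) := fun h => hxe (by
        have h' := ((hrc x).inv_right).mul_right h
        rwa [inv_mul_cancel_left] at h')
      have h := pow_three_of_not_commute hg.1 hx he' hn
      have e1 : x * (r * e) = r * (x * e) := by rw [← mul_assoc, (hrc x).eq, mul_assoc]
      rwa [e1, ((hrc (x * e)).symm).mul_pow, pow_three_of_not_commute hg.1 hx he hxe, mul_one] at h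
    have hr1 := eq_one_of_pow_coprime h2 h3 (by norm_num)
    rw [hr, mul_inv_eq_one, mul_inv_eq_iff_eq_mul] at hr1
    exact hr1.symm
  have hα : α ∈ Subgroup.center G := commute_all_of_gen S.classD.2.2 hcomm
  have h2 : α * α = 1 := by
    have h := S.conj_alpha
    rw [(hcomm d S.mem).eq, mul_assoc, S.dd, mul_one] at h
    exact mul_eq_one_iff_eq_inv.2 h
  refine twist_of_mem S.classD S.classE S.memE hα h2 ?_
  rw [mul_assoc, h2, mul_one]; exact S.mem

theorem inf_centralizer_alpha :
    (∀ r ∈ R, Commute α r) ∨ ∀ r ∈ R, α * r * α⁻¹ = r⁻¹ := by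
  have := S.normal
  have hn : (R ⊓ Subgroup.centralizer {α}).Normal := ⟨fun n hn g => by
    refine ⟨S.normal.conj_mem n hn.1 g, Subgroup.mem_centralizer_singleton_iff.2 ?_⟩
    have hnα : Commute n α := Subgroup.mem_centralizer_singleton_iff.1 hn.2
    have h1 : Commute (g * n * g⁻¹) (g * α * g⁻¹) := hnα.map (MulAut.conj g).toMonoidHom
    have h2 : Commute (g * n * g⁻¹) ((g * α * g⁻¹ * α⁻¹)⁻¹ * (g * α * g⁻¹)) :=
      (S.comm _ (S.normal.conj_mem n hn.1 g) _ (inv_mem (S.cen g))).mul_right h1
    have e : (g * α * g⁻¹ * α⁻¹)⁻¹ * (g * α * g⁻¹) = α := by group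
    rw [e] at h2
    exact h2.eq⟩
  rcases S.min _ hn inf_le_left with h | h
  · right
    intro r hr
    have hm : α * r * α⁻¹ ∈ R := S.normal.conj_mem r hr α
    have hfix : Commute (r * (α * r * α⁻¹)) α := by
      have h1 : α * (α * r * α⁻¹) * α⁻¹ = r := by
        have h2 := (S.comm _ S.sq r hr).eq
        calc α * (α * r * α⁻¹) * α⁻¹ = (α * α) * r * (α * α)⁻¹ := by group
          _ = r := by rw [h2, mul_inv_cancel_right]
      show r * (α * r * α⁻¹) * α = α * (r * (α * r * α⁻¹))
      calc r * (α * r * α⁻¹) * α = (α * r * α⁻¹) * r * α := by rw [(S.comm r hr _ hm).eq]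
        _ = (α * r * α⁻¹) * (α * (α * r * α⁻¹) * α⁻¹) * α := by rw [h1]
        _ = _ := by group
    have h1 : r * (α * r * α⁻¹) ∈ R ⊓ Subgroup.centralizer {α} :=
      ⟨mul_mem hr hm, Subgroup.mem_centralizer_singleton_iff.2 hfix.eq⟩
    rw [h, Subgroup.mem_bot] at h1
    exact eq_inv_of_mul_eq_one_right h1
  · left
    intro r hr
    rw [← h] at hr
    exact (Subgroup.mem_centralizer_singleton_iff.1 hr.2).symm

theorem twist_of_odd_commute {p : ℕ} (hp : Odd p) (hexp : ∀ r ∈ R, r ^ p = 1)
    (hαR : ∀ r ∈ R, Commute α r) : Twist D E := by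
  obtain ⟨k, hk⟩ := hp
  set s := α * α with hs
  have hsR : s ∈ R := S.sq
  have hz : α ^ p ∈ Subgroup.center G := by
    rw [Subgroup.mem_center_iff]
    intro g
    set r := g * α * g⁻¹ * α⁻¹ with hr
    have h1 : (g * α * g⁻¹) ^ p = α ^ p := by
      have e : g * α * g⁻¹ = r * α := by rw [hr, inv_mul_cancel_right]
      rw [e, ((hαR r (S.cen g)).symm).mul_pow, hexp r (S.cen g), one_mul]
    rw [conj_pow] at h1
    calc g * α ^ p = g * α ^ p * g⁻¹ * g := by group
      _ = _ := by rw [h1]
  have hz2 : α ^ p * α ^ p = 1 := by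
    rw [← (Commute.refl α).mul_pow]; exact hexp s hsR
  refine twist_of_mem S.classD S.classE S.memE hz hz2 ?_
  -- `α ^ (p + 1)` is a square in `R` inverted by `d`
  have e1 : α * α ^ p = s ^ (k + 1) := by
    rw [hs, ← pow_two, ← pow_mul, ← pow_succ', hk]; ring_nf
  rw [mul_assoc, e1]
  have hinv : d * s * d = s⁻¹ := by
    calc d * (α * α) * d = (d * α * d) * (d * α * d) := by
          simp only [mul_assoc, mul_self_cancel S.classD.1 S.mem]
      _ = _ := by rw [S.conj_alpha, hs, mul_inv_rev]
  -- a square root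
  set t := (s ^ (k + 1)) ^ (k + 1) with ht
  have htR : t ∈ R := pow_mem (pow_mem hsR _) _
  have htt : t * t = s ^ (k + 1) := by
    rw [ht, ← pow_add, show k + 1 + (k + 1) = p + 1 by omega, pow_succ,
      hexp _ (pow_mem hsR _), one_mul]
  have htd : d * t * d = t⁻¹ := by
    have hdi := ThreeTrans.inv_eq S.classD.1 S.mem
    have e2 : d * t * d = d * t * d⁻¹ := by rw [hdi]
    rw [e2, ht, ← conj_pow, ← conj_pow]
    rw [hdi, hinv, inv_pow, inv_pow]
  have e3 : d * s ^ (k + 1) = t⁻¹ * d * t⁻¹⁻¹ := by
    rw [inv_inv, ← htd, ← htt]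
    simp only [mul_assoc, mul_self_cancel S.classD.1 S.mem]
  rw [e3]
  exact (group_of_class S.classD).2.1 _ d S.mem

/-- If `α` inverts `R` of odd exponent there is a contradiction. -/
theorem false_of_inverts [Finite G] {p : ℕ} (hp : Odd p) (hexp : ∀ r ∈ R, r ^ p = 1)
    (hR : ¬ R ≤ Subgroup.center G) (hinv : ∀ r ∈ R, α * r * α⁻¹ = r⁻¹) : False := by
  have := S.normal
  have hD := S.classD
  have hE := S.classE
  have hgD := group_of_class hD
  have hgE := group_of_class hE
  set q := QuotientGroup.mk' R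
  have hq : ∀ {x y : G}, y⁻¹ * x ∈ R → q x = q y := fun h => (QuotientGroup.eq.2 h).symm
  set φ : G →* MulAut R := MulAut.conjNormal with hφ
  have hφa : ∀ g (r : R), ((φ g r : R) : G) = g * r * g⁻¹ := fun g r => MulAut.conjNormal_apply g r
  have hφR : ∀ r ∈ R, φ r = 1 := fun r hr => MulEquiv.ext fun s => Subtype.ext (by
    rw [hφa, MulAut.one_apply, (S.comm r hr s s.2).eq, mul_inv_cancel_right])
  have hφq : ∀ {x y : G}, q x = q y → φ x = φ y := by
    intro x y h
    have h1 := hφR _ (QuotientGroup.eq.1 h)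
    rw [map_mul, map_inv, inv_mul_eq_one] at h1
    exact h1
  have hinvol : ∀ r ∈ R, r * r = 1 → r = 1 := fun r hr h =>
    eq_one_of_pow_coprime (by rw [pow_two, h]) (hexp r hr) (Nat.coprime_two_left.2 hp)
  have hRne : ∃ r ∈ R, r ≠ 1 := by
    by_contra h
    exact hR fun r hr => by
      rw [show r = 1 from by_contra fun hn => h ⟨r, hr, hn⟩]; exact one_mem _
  have hZ : φ α ≠ 1 := by
    intro h
    obtain ⟨r, hr, hr1⟩ := hRne
    have h1 := hinv r hr
    have h2 := hφa α ⟨r, hr⟩
    rw [h, MulAut.one_apply] at h2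
    exact hr1 (hinvol r hr (mul_eq_one_iff_eq_inv.2 (h2.trans h1)))
  have hZ2 : φ α * φ α = 1 := by rw [← map_mul, hφR _ S.sq]
  have hZc : ∀ g, Commute (φ g) (φ α) := by
    intro g
    have h1 := hφR _ (S.cen g)
    rw [map_mul, map_mul, map_mul, map_inv, map_inv, mul_inv_eq_one, mul_inv_eq_iff_eq_mul] at h1
    exact h1
  have hqα : ∀ g, Commute (q g) (q α) := fun g => by
    have h : q (g * α * g⁻¹ * α⁻¹) = 1 := (QuotientGroup.eq_one_iff _).2 (S.cen g)
    rw [map_mul, map_mul, map_mul, map_inv, map_inv, mul_inv_eq_one, mul_inv_eq_iff_eq_mul] at h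
    exact h
  by_cases hf : ∃ f ∈ D, q f ≠ q d ∧ Commute (q f) (q d)
  · -- a commuting member acts as `d` times the inversion
    have hF : ∀ f ∈ D, q f ≠ q d → Commute (q f) (q d) → φ f = φ α * φ d := by
      intro f hf hne hc
      have hfd := commute_of_image q hgD.1 hf S.mem hc hne
      have hd' : ∀ r ∈ R, q (r * d * r⁻¹) = q d := fun r hr => by
        have hr1 : q r = 1 := (QuotientGroup.eq_one_iff r).2 hr
        rw [map_mul, map_mul, map_inv, hr1]
        simp
      obtain ⟨β, hβE, hβ⟩ := S.partner hf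
      have hqb : q (f * β) = q f * q α := by
        rw [map_mul]
        congr 1
        exact hq (by simpa [mul_assoc] using S.normal.conj_mem _ hβ α⁻¹)
      have hbne : q (f * β) ≠ q (d * α) := by
        rw [hqb, map_mul]; exact fun h => hne (mul_right_cancel h)
      have hbc : Commute (q (f * β)) (q (d * α)) := by
        rw [hqb, map_mul]
        exact (hc.mul_right (hqα f)).mul_left (((hqα d).symm).mul_right (Commute.refl _))
      have hbd := commute_of_image q hgE.1 hβE S.memE hbc hbne
      have hφb : φ (f * β) = φ α * φ f := by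
        rw [map_mul, ← (hZc f).eq]
        congr 1
        exact hφq (hq (by simpa [mul_assoc] using S.normal.conj_mem _ hβ α⁻¹))
      refine MulEquiv.ext fun r => Subtype.ext ?_
      obtain ⟨r, hr⟩ := r
      have hdr : d * r * d⁻¹ ∈ R := S.normal.conj_mem r hr d
      set v := d * r * d⁻¹ with hv
      -- `f` centralises `r v⁻¹`
      have h1 : f * (r * v⁻¹) * f⁻¹ = r * v⁻¹ := by
        have hx : Commute f (r * d * r⁻¹ * d⁻¹) := by
          refine Commute.mul_right ?_ hfd.inv_right
          refine commute_of_image q hgD.1 hf (hgD.2.1 r d S.mem) ?_ ?_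
          · rw [hd' r hr]; exact hc
          · rw [hd' r hr]; exact hne
        have e : r * v⁻¹ = r * d * r⁻¹ * d⁻¹ := by rw [hv]; group
        rw [e, hx.eq, mul_inv_cancel_right]
      -- `f` inverts `r v`
      have h2 : f * (r * v) * f⁻¹ = (r * v)⁻¹ := by
        have hx : Commute (f * β) (r * (d * α) * r⁻¹ * (d * α)⁻¹) := by
          refine Commute.mul_right ?_ hbd.inv_right
          have e : q (r * (d * α) * r⁻¹) = q (d * α) := by
            have hr1 : q r = 1 := (QuotientGroup.eq_one_iff r).2 hr
            rw [map_mul, map_mul, map_inv, hr1]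
            simp
          exact commute_of_image q hgE.1 hβE (hgE.2.1 r _ S.memE) (e ▸ hbc) (e ▸ hbne)
        have e : r * (d * α) * r⁻¹ * (d * α)⁻¹ = r * v := by
          calc r * (d * α) * r⁻¹ * (d * α)⁻¹ = r * (d * (α * r * α⁻¹)⁻¹ * d⁻¹) := by group
            _ = _ := by rw [hinv r hr, inv_inv, hv]
        rw [e] at hx
        have hm : r * v ∈ R := mul_mem hr hdr
        have h3 := hφa (f * β) ⟨r * v, hm⟩
        have h4 : ((φ (f * β) ⟨r * v, hm⟩ : R) : G) = (f * (r * v) * f⁻¹)⁻¹ := by
          rw [hφb, MulAut.mul_apply, hφa, hinv _ (SetLike.coe_mem _), hφa]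
        have h5 : f * β * (r * v) * (f * β)⁻¹ = r * v := by rw [hx.eq, mul_inv_cancel_right]
        rw [h4] at h3
        exact inv_eq_iff_eq_inv.1 (h3.trans h5)
      -- compare squares
      set w := f * r * f⁻¹ with hw
      have hwR : w ∈ R := S.normal.conj_mem r hr f
      have h6 : w * w = v⁻¹ * v⁻¹ := by
        calc w * w = f * (r * r) * f⁻¹ := by rw [hw]; group
          _ = f * ((r * v⁻¹) * (r * v)) * f⁻¹ := by
              congr 2
              calc r * r = r * (r * v⁻¹) * v := by group
                _ = r * (v⁻¹ * r) * v := by rw [(S.comm _ (inv_mem hdr) r hr).eq]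
                _ = _ := by group
          _ = (f * (r * v⁻¹) * f⁻¹) * (f * (r * v) * f⁻¹) := by group
          _ = r * (v⁻¹ * v⁻¹) * r⁻¹ := by rw [h1, h2]; group
          _ = _ := by
              rw [(S.comm r hr _ (mul_mem (inv_mem hdr) (inv_mem hdr))).eq, mul_inv_cancel_right]
      have h7 : w = v⁻¹ := by
        refine eq_of_mul_inv_eq_one (hinvol _ (mul_mem hwR (inv_mem (inv_mem hdr))) ?_)
        have hc7 : Commute w v⁻¹ := S.comm _ hwR _ (inv_mem hdr)
        rw [← pow_two, hc7.inv_right.mul_pow, pow_two, pow_two, h6]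
        group
      rw [hφa, MulAut.mul_apply, hφa, hφa]
      rw [hinv _ hdr]
      exact h7
    have hall : ∀ x ∈ D, φ x = φ d ∨ φ x = φ α * φ d := by
      intro x hx
      obtain ⟨f, hf, hne, hc⟩ := hf
      by_cases hxd : q x = q d
      · exact Or.inl (hφq hxd)
      by_cases hc' : Commute (q x) (q d)
      · exact Or.inr (hF x hx hxd hc')
      left
      have hnxd : ¬ Commute x d := fun h => hc' (h.map q)
      have hnxf : q x ≠ q f := fun h => hc' (h ▸ hc)
      have e3 : (φ x * φ d) ^ 3 = 1 := by
        rw [← map_mul, ← map_pow, pow_three_of_not_commute hgD.1 hx S.mem hnxd, map_one]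
      have hxx : φ x * φ x = 1 := by rw [← map_mul, mul_self hgD.1 hx, map_one]
      have hdd : φ d * φ d = 1 := by rw [← map_mul, S.dd, map_one]
      have hfF := hF f hf hne hc
      rcases hgD.1.2 x hx f hf with h | h
      · have hcf : Commute (φ x) (φ f) := ((commute_iff_sq hgD.1 hx hf).2 h).map φ
        have hcd : Commute (φ x) (φ d) := by
          have h1 := (hZc x).inv_right.mul_right (hfF ▸ hcf)
          rwa [inv_mul_cancel_left] at h1
        have e2 : (φ x * φ d) ^ 2 = 1 := by
          rw [hcd.mul_pow, pow_two, pow_two, hxx, hdd, one_mul]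
        rw [eq_inv_of_mul_eq_one_left (eq_one_of_pow_coprime e2 e3 (by norm_num)),
          inv_eq_of_mul_eq_one_left hdd]
      · exfalso
        apply hZ
        have h1 : (φ x * φ f) ^ 3 = 1 := by rw [← map_mul, ← map_pow, h, map_one]
        rw [hfF, ← mul_assoc, (hZc x).eq, mul_assoc,
          ((hZc x).mul_left (hZc d)).symm.mul_pow, e3, mul_one] at h1
        exact eq_one_of_pow_coprime (by rw [pow_two, hZ2]) h1 (by norm_num)
    -- so `d` is central on `R`
    have hdc : ∀ g, Commute (φ g) (φ d) := by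
      intro g
      have hg : g ∈ Subgroup.closure D := by rw [hD.2.2]; exact Subgroup.mem_top g
      induction hg using Subgroup.closure_induction with
      | mem x hx =>
        rcases hall x hx with h | h
        · rw [h]
        · rw [h]; exact (hZc d).symm.mul_left (Commute.refl _)
      | one => rw [map_one]; exact Commute.one_left _
      | mul u v _ _ hu hv => rw [map_mul]; exact hu.mul_left hv
      | inv u _ hu => rw [map_inv]; exact hu.inv_left
    obtain ⟨f, hf, hne, hc⟩ := hf
    obtain ⟨g, hg⟩ := class_conj hD S.mem hf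
    have h1 : φ f = φ d := by
      rw [← hg, map_mul, map_mul, map_inv, (hdc g).eq, mul_inv_cancel_right]
    rw [hF f hf hne hc] at h1
    exact hZ (mul_right_cancel (h1.trans (one_mul _).symm))
  · -- the image is a group with all products cubing to one
    have hI := image_class q (QuotientGroup.mk'_surjective R) hD fun x hx h =>
      S.outD x hx ((QuotientGroup.eq_one_iff x).1 h)
    have hgI := group_of_class hI
    have hcube : CubeSet (q '' D) := by
      refine ⟨hI.1.1, hgI.2.1, ?_⟩
      rintro _ ⟨u, hu, rfl⟩ _ ⟨v, hv, rfl⟩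
      by_cases hc : Commute (q u) (q v)
      · have e : q u = q v := by
          by_contra hne
          obtain ⟨g, hg⟩ := class_conj hD hv S.mem
          refine hf ⟨g * u * g⁻¹, hgD.2.1 g u hu, fun h => hne ?_, ?_⟩
          · rw [← hg, map_mul, map_mul, map_mul, map_mul] at h
            exact mul_left_cancel (mul_right_cancel h)
          · rw [← hg]
            have := hc.map (MulAut.conj (q g)).toMonoidHom
            simpa [map_mul, map_inv] using this
        rw [e, ThreeTrans.mul_self hI.1 ⟨v, hv, rfl⟩, one_pow]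
      · exact pow_three_of_not_commute hI.1 ⟨u, hu, rfl⟩ ⟨v, hv, rfl⟩ hc
    have : Fact (Nat.Prime 3) := ⟨Nat.prime_three⟩
    set N := pCore 3 (G ⧸ R) with hN
    set ρ := QuotientGroup.mk' N with hρ
    have himg : ∀ x ∈ D, ρ (q x) = ρ (q d) := fun x hx => by
      refine (QuotientGroup.eq.2 ?_)
      rw [hcube.inv_eq ⟨x, hx, rfl⟩]
      exact hcube.mul_mem_pCore_three ⟨x, hx, rfl⟩ ⟨d, S.mem, rfl⟩
    have hall : ∀ g, ρ (q g) = 1 ∨ ρ (q g) = ρ (q d) := by
      intro g
      have hdd : ρ (q d) * ρ (q d) = 1 := by rw [← map_mul, ← map_mul, S.dd, map_one, map_one]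
      have hg : g ∈ Subgroup.closure D := by rw [hD.2.2]; exact Subgroup.mem_top g
      induction hg using Subgroup.closure_induction with
      | mem x hx => exact Or.inr (himg x hx)
      | one => exact Or.inl (by rw [map_one, map_one])
      | mul u v _ _ hu hv =>
        rw [map_mul, map_mul]
        rcases hu with hu | hu <;> rcases hv with hv | hv <;> rw [hu, hv] <;> simp [hdd]
      | inv u _ hu =>
        rw [map_inv, map_inv]
        rcases hu with hu | hu <;> rw [hu]
        · simp
        · exact Or.inr (inv_eq_of_mul_eq_one_left hdd)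
    have hkill : ∀ g, q (g * g) = 1 → ρ (q g) = 1 → g ∈ R := fun g h2 h1 => by
      refine (QuotientGroup.eq_one_iff g).1 ?_
      exact eq_one_of_mem_pCore Nat.prime_three ((QuotientGroup.eq_one_iff _).1 h1) (n := 2)
        (by rw [pow_two]; exact (map_mul q g g).symm.trans h2) (by norm_num)
    rcases hall α with h | h
    · exact hZ (hφR α (hkill α ((QuotientGroup.eq_one_iff _).2 S.sq) h))
    · refine S.outE _ S.memE (hkill _ (by rw [mul_self hgE.1 S.memE, map_one]) ?_)
      rw [map_mul, map_mul, h, ← map_mul, ← map_mul, S.dd, map_one, map_one]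

/-- The step for odd exponent. -/
theorem twist_of_odd [Finite G] {p : ℕ} (hp : Odd p) (hexp : ∀ r ∈ R, r ^ p = 1) : Twist D E := by
  by_cases hc : R ≤ Subgroup.center G
  · exact S.twist_of_central hc
  rcases S.inf_centralizer_alpha with h | h
  · exact S.twist_of_odd_commute hp hexp h
  · exact (S.false_of_inverts hp hexp hc h).elim

end Step

end Cfsg.Agent.ThreeTransUnique
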