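/-
The descent step for a minimal normal elementary abelian 2-subgroup: the 2-core centralises the
element `α` which twists the second class.

Main results:
* `Two` : the data of the step
* `Two.core_commute` : `pCore 2 G` centralises `α`
-/
import Cfsg.Agent.Lib.ThreeTransUnique.Step
import Cfsg.Agent.Lib.ThreeTransUnique.Line

namespace Cfsg.Agent.ThreeTransUnique

open Cfsg Cfsg.Agent.ThreeTrans

variable {G : Type*} [Group G] {D E : Set G} {R : Subgroup G} {d α : G}

/-- The data of a step for a non-central `R` of exponent two. -/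
structure Two (D E : Set G) (R : Subgroup G) (d α : G) : Prop extends Step D E R d α where
  sq2 : ∀ r ∈ R, r * r = 1
  noncentral : ¬ R ≤ Subgroup.center G

namespace Two

variable (S : Two D E R d α)
include S

theorem elemR : Elem2 R := ⟨S.normal, S.comm, S.sq2⟩

theorem inf_center : R ⊓ Subgroup.center G = ⊥ := by
  have := S.normal
  rcases S.min _ inferInstance (inf_le_left (b := Subgroup.center G)) with h | h
  · exact h
  · exact absurd (h ▸ inf_le_right) S.noncentral

theorem eq_one_of_central {r : G} (hr : r ∈ R) (h : ∀ x ∈ D, Commute x r) : r = 1 := by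
  have : r ∈ R ⊓ Subgroup.center G := ⟨hr, commute_all_of_gen S.classD.2.2 h⟩
  rwa [S.inf_center, Subgroup.mem_bot] at this

theorem alpha_comm : ∀ r ∈ R, Commute α r := by
  rcases S.toStep.inf_centralizer_alpha with h | h
  · exact h
  · intro r hr
    have := h r hr
    rw [S.elemR.inv_eq hr, mul_inv_eq_iff_eq_mul] at this
    exact this

theorem alpha_sq : α * α = 1 := by
  refine S.eq_one_of_central S.sq fun x _ => ?_
  have hs := S.cen x
  set s := x * α * x⁻¹ * α⁻¹ with hsdef
  have h1 : x * (α * α) * x⁻¹ = α * α := by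
    calc x * (α * α) * x⁻¹ = (s * α) * (s * α) := by rw [hsdef]; group
      _ = s * (α * s) * α := by simp only [mul_assoc]
      _ = s * (s * α) * α := by rw [(S.alpha_comm s hs).eq]
      _ = α * α := by rw [← mul_assoc s s α, S.sq2 s hs, one_mul]
  show x * (α * α) = α * α * x
  calc x * (α * α) = x * (α * α) * x⁻¹ * x := by group
    _ = _ := by rw [h1]

theorem alpha_inv : α⁻¹ = α := inv_eq_of_mul_eq_one_left S.alpha_sq

theorem commute_d_alpha : Commute d α := by
  refine commute_of_conj_eq S.classD.1 S.mem ?_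
  rw [S.toStep.conj_alpha, S.alpha_inv]

/-- `R` extended by `α`. -/
def A : Subgroup G where
  carrier := {x | x ∈ R ∨ x * α ∈ R}
  one_mem' := Or.inl R.one_mem
  mul_mem' := by
    rintro x y (hx | hx) (hy | hy)
    · exact Or.inl (mul_mem hx hy)
    · exact Or.inr (by rw [mul_assoc]; exact mul_mem hx hy)
    · refine Or.inr ?_
      have e : x * y * α = x * α * y := by rw [mul_assoc, ← (S.alpha_comm y hy).eq, ← mul_assoc]
      rw [e]; exact mul_mem hx hy
    · refine Or.inl ?_
      have e : α * y = y * α := by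
        have h' : Commute α (y * α * α) := (S.alpha_comm _ hy).mul_right (Commute.refl α)
        rw [mul_assoc, S.alpha_sq, mul_one] at h'
        exact h'.eq
      have e2 : x * y = (x * α) * (y * α) := by
        rw [← e, ← mul_assoc (x * α), mul_assoc x α α, S.alpha_sq, mul_one]
      rw [e2]; exact mul_mem hx hy
  inv_mem' := by
    rintro x (hx | hx)
    · exact Or.inl (inv_mem hx)
    · refine Or.inr ?_
      have h := inv_mem hx
      rw [mul_inv_rev, S.alpha_inv] at h
      have e : x⁻¹ * α = α * (α * x⁻¹) * α := by rw [← mul_assoc α α, S.alpha_sq, one_mul]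
      rw [e, (S.alpha_comm _ h).eq, mul_assoc, S.alpha_sq, mul_one]
      exact h

theorem mem_A {x : G} : x ∈ S.A ↔ x ∈ R ∨ x * α ∈ R := Iff.rfl

theorem alpha_mem : α ∈ S.A := Or.inr (by rw [S.alpha_sq]; exact R.one_mem)

theorem le_A : R ≤ S.A := fun _ hx => Or.inl hx

theorem exists_eq {x : G} (hx : x ∈ S.A) : ∃ s ∈ R, x = s ∨ x = α * s := by
  rcases hx with h | h
  · exact ⟨x, h, Or.inl rfl⟩
  · refine ⟨x * α, h, Or.inr ?_⟩
    rw [(S.alpha_comm _ h).eq, mul_assoc, S.alpha_sq, mul_one]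

theorem elemA : Elem2 S.A := by
  refine ⟨⟨fun x hx g => ?_⟩, fun x hx y hy => ?_, fun x hx => ?_⟩
  · obtain ⟨s, hs, rfl | rfl⟩ := S.exists_eq hx
    · exact S.le_A (S.normal.conj_mem _ hs g)
    · have e : g * (α * s) * g⁻¹ = (g * α * g⁻¹ * α⁻¹) * α * (g * s * g⁻¹) := by group
      rw [e]
      exact mul_mem (mul_mem (S.le_A (S.cen g)) S.alpha_mem) (S.le_A (S.normal.conj_mem s hs g))
  · obtain ⟨s, hs, rfl | rfl⟩ := S.exists_eq hx <;> obtain ⟨t, ht, rfl | rfl⟩ := S.exists_eq hy
    · exact S.comm _ hs _ ht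
    · exact (S.alpha_comm _ hs).symm.mul_right (S.comm _ hs _ ht)
    · exact (S.alpha_comm _ ht).mul_left (S.comm _ hs _ ht)
    · exact ((Commute.refl α).mul_right (S.alpha_comm _ ht)).mul_left
        ((S.alpha_comm _ hs).symm.mul_right (S.comm _ hs _ ht))
  · obtain ⟨s, hs, rfl | rfl⟩ := S.exists_eq hx
    · exact S.sq2 _ hs
    · calc α * s * (α * s) = α * (s * α) * s := by simp only [mul_assoc]
        _ = α * (α * s) * s := by rw [(S.alpha_comm s hs).eq]
        _ = 1 := by rw [← mul_assoc α α s, S.alpha_sq, one_mul, S.sq2 s hs]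

theorem conj_mul_mem (g : G) {x : G} (hx : x ∈ S.A) : x * (g * x * g⁻¹) ∈ R := by
  obtain ⟨s, hs, rfl | rfl⟩ := S.exists_eq hx
  · exact mul_mem hs (S.normal.conj_mem _ hs g)
  · have e : α * s * (g * (α * s) * g⁻¹) =
        α * s * (g * α * g⁻¹ * α⁻¹) * α * (g * s * g⁻¹) := by group
    rw [e, mul_assoc α s, (S.alpha_comm _ (mul_mem hs (S.cen g))).eq,
      mul_assoc (s * _) α α, S.alpha_sq, mul_one]
    exact mul_mem (mul_mem hs (S.cen g)) (S.normal.conj_mem s hs g)

theorem moveR {x : G} (hx : x ∈ D) : ∃ r ∈ R, ¬ Commute x r := by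
  by_contra h
  have := S.normal
  have hn : Subgroup.centralizer (R : Set G) = ⊤ :=
    normal_eq_top S.classD _ hx (Subgroup.mem_centralizer_iff.2 fun r hr =>
      (by_contra fun hne => h ⟨r, hr, fun hc => hne hc.symm.eq⟩))
  exact S.noncentral (Subgroup.centralizer_eq_top_iff_subset.1 hn)

/-- Members acting in the same way on `R` commute with the same members. -/
theorem vRel_of_act [Finite G] {x e : G} (hx : x ∈ D) (he : e ∈ D)
    (h : ∀ r ∈ R, x * r * x = e * r * e) : VRel D x e := by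
  by_contra hne
  obtain ⟨w, hw, hw1⟩ := exists_isW_ne_one S.elemR (mul_self S.classD.1 hx) (S.moveR hx)
  obtain ⟨r, hr, rfl⟩ := id hw
  exact hw1 (IsW.eq_one_of_not_vRel (group_of_class S.classD) S.elemR hx he hne hw
    ⟨r, hr, by rw [h r hr]⟩)

theorem core_fix [Finite G] {q r : G} (hq : q ∈ pCore 2 G) (hr : r ∈ R) : Commute q r := by
  have := S.normal
  have : Fact (Nat.Prime 2) := ⟨Nat.prime_two⟩
  exact ((Subgroup.mem_centralizer_iff.1 (Cores.fitting_le_centralizer_minimalNormal R S.min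
    (Cores.pCore_le_fittingSubgroup 2 hq))) r hr).symm

/-- Every member has a partner fixed by it. -/
theorem partnerA {x : G} (hx : x ∈ D) :
    ∃ β, x * β ∈ E ∧ β ∈ S.A ∧ β * α ∈ R ∧ Commute x β := by
  obtain ⟨g, rfl⟩ := class_conj S.classD S.mem hx
  refine ⟨g * α * g⁻¹, ?_, S.elemA.conj_mem g S.alpha_mem, ?_, ?_⟩
  · have := (group_of_class S.classE).2.1 g _ S.memE
    simpa [mul_assoc] using this
  · have h := S.cen g
    rwa [S.alpha_inv] at h
  · exact S.commute_d_alpha.map (MulAut.conj g).toMonoidHom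

theorem mk_A {x v : G} (hv : v ∈ S.A) :
    haveI := S.elemA.normal
    QuotientGroup.mk' S.A (x * v) = QuotientGroup.mk' S.A x := by
  have := S.elemA.normal
  exact QuotientGroup.eq.2 (by simpa [mul_assoc] using inv_mem hv)

/-- Partners of commuting members commute. -/
theorem commute_partner {h f β γ : G} (hh : h ∈ D) (hf : f ∈ D) (hβ : β ∈ S.A) (hγ : γ ∈ S.A)
    (hβE : h * β ∈ E) (hγE : f * γ ∈ E) (hc : Commute h f) : Commute (h * β) (f * γ) := by
  have := S.elemA.normal
  refine commute_of_image_elem S.classE.1 S.elemA hβE hγE ?_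
  rw [S.mk_A hβ, S.mk_A hγ]
  exact hc.map _

/-- The sums of partners along a line agree. -/
theorem S3_partner {h x β β' : G} (hh : h ∈ D) (hx : x ∈ D) (hn : ¬ Commute h x) (hβ : β ∈ S.A)
    (hβ' : β' ∈ S.A) (hβE : h * β ∈ E) (hβE' : x * β' ∈ E) (hc : Commute h β) :
    S3 (h * x) β = S3 (h * x) β' := by
  have := S.elemA.normal
  have hD := S.classD.1
  have hA := S.elemA
  have hnE : ¬ Commute (h * β) (x * β') := fun hcE => hn (by
    refine commute_of_image_elem hD hA hh hx ?_
    have h1 := hcE.map (QuotientGroup.mk' S.A)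
    rwa [S.mk_A hβ, S.mk_A hβ'] at h1)
  have h3E := pow_three_of_not_commute S.classE.1 hβE hβE' hnE
  have h3 := pow_three_of_not_commute hD hh hx hn
  set g := h * x with hg
  have hxx := mul_self hD hx
  have hxβ := hA.conj_mem' hxx hβ
  set v := x * β * x * β' with hv
  have e0 : h * β * (x * β') = g * v := by
    rw [hg, hv]; simp only [mul_assoc, mul_self_cancel hD hx]
  rw [e0] at h3E
  have hgg : g * g = g⁻¹ := eq_inv_of_mul_eq_one_left (by rw [← h3]; simp [pow_succ, mul_assoc])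
  have hvA : v ∈ S.A := mul_mem hxβ hβ'
  have m1 : g * v * g⁻¹ ∈ S.A := hA.conj_mem g hvA
  have m2 : g⁻¹ * v * g ∈ S.A := by simpa using hA.conj_mem g⁻¹ hvA
  have e1 : S3 g v = 1 := by
    rw [← h3E]
    calc S3 g v = (g * v * g⁻¹) * (g⁻¹ * v * g) * v := by
          unfold S3
          rw [(hA.comm _ (mul_mem m1 m2) v hvA).eq, mul_assoc]
      _ = (g * v * g⁻¹) * ((g * g) * v * (g * g)⁻¹) * ((g ^ 3) * v * (g ^ 3)⁻¹) * g ^ 3 := by
          rw [hgg, inv_inv, h3]; group
      _ = _ := by simp only [pow_succ, pow_zero, one_mul]; group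
  have e2 : S3 g (x * β * x) = S3 g β := by
    rw [← conj_S3 hA hxx (conj_line_right hD hh hx) hβ,
      (commute_S3_right hD hh hx hA h3 hβ hc).eq, mul_assoc, hxx, mul_one]
  rw [hv, S3_mul hA g hxβ hβ', e2] at e1
  rw [eq_inv_of_mul_eq_one_left e1, hA.inv_eq (S3_mem hA g hβ')]

/-- The translation by `q` does not depend on the partner. -/
theorem delta_eq [Finite G] {q β : G} (hq : q ∈ pCore 2 G) (hβA : β ∈ S.A) (hβ : β * α ∈ R) :
    β * (q * β * q⁻¹) = α * (q * α * q⁻¹) := by
  set s := β * α with hs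
  have hsq := S.core_fix hq hβ
  have e : β = s * α := by rw [hs, mul_assoc, S.alpha_sq, mul_one]
  have e2 : q * (s * α) * q⁻¹ = s * (q * α * q⁻¹) := by
    calc q * (s * α) * q⁻¹ = (q * s) * α * q⁻¹ := by group
      _ = _ := by rw [hsq.eq]; group
  rw [e, e2]
  calc s * α * (s * (q * α * q⁻¹)) = s * (α * s) * (q * α * q⁻¹) := by simp only [mul_assoc]
    _ = s * (s * α) * (q * α * q⁻¹) := by rw [(S.alpha_comm s hβ).eq]
    _ = _ := by rw [← mul_assoc s s α, S.sq2 s hβ, one_mul]

/-- Members commuting with `h` act on the translations as `h` does. -/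
theorem conj_delta [Finite G] {h f β q : G} (hh : h ∈ D) (hf : f ∈ D) (hβE : h * β ∈ E)
    (hβ : β ∈ S.A) (hβR : β * α ∈ R) (hhβ : Commute h β) (hq : q ∈ pCore 2 G) (hc : Commute h f) :
    f * (β * (q * β * q⁻¹)) * f =
      β * (q * h * q⁻¹ * β * (q * h * q⁻¹)) * (β * (q * β * q⁻¹)) := by
  have hD := S.classD.1
  have hg := group_of_class S.classD
  have hgE := group_of_class S.classE
  have hA := S.elemA
  set e := q * h * q⁻¹ with he
  have heD : e ∈ D := hg.2.1 q h hh
  have hQ : h⁻¹ * e ∈ pCore 2 G := inv_mul_conj_mem hq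
  have hfe : Commute f e := (vRel_imp hD hh heD hf hQ hc).symm
  have hhe : Commute h e := (vRel_imp hD hh heD hh hQ (Commute.refl h)).symm
  set r := β * (q * β * q⁻¹) with hr
  have hrR : r ∈ R := S.conj_mul_mem q hβ
  set w := β * (e * β * e) with hw
  have hee := mul_self hD heD
  have hwW : IsW S.A e w := ⟨β, hβ, rfl⟩
  have hwA : w ∈ S.A := hwW.mem hA hee
  have hfw : Commute f w := hwW.commute_of_commute hg hA heD hf hfe.symm
  obtain ⟨γ, hγE, hγ, hγR, hfγ⟩ := S.partnerA hf
  have hb1 := S.commute_partner hf hh hγ hβ hγE hβE hc.symm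
  have hρ : q * β * q⁻¹ ∈ S.A := hA.conj_mem q hβ
  have haE : e * (q * β * q⁻¹) ∈ E := by
    have := hgE.2.1 q _ hβE
    simpa [he, mul_assoc] using this
  have hb2 := S.commute_partner hf heD hγ hρ hγE haE hfe
  have hcomm : Commute (f * γ) (h * β * (e * (q * β * q⁻¹))) := hb1.mul_right hb2
  set u := h * e with hu
  have hp : h * β * (e * (q * β * q⁻¹)) = u * (w * r) := by
    have e1 : q * β * q⁻¹ = β * r := by rw [hr, ← mul_assoc, hA.sq β hβ, one_mul]
    have e2 : β * e = e * (β * w) := by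
      rw [hw, ← mul_assoc β β, hA.sq β hβ, one_mul]
      simp only [← mul_assoc, hee, one_mul]
    calc h * β * (e * (q * β * q⁻¹)) = h * (β * e) * (β * r) := by rw [e1]; simp only [mul_assoc]
      _ = h * e * ((β * w) * β * r) := by rw [e2]; simp only [mul_assoc]
      _ = _ := by
          rw [hu, (hA.comm β hβ w hwA).eq, mul_assoc w β β, hA.sq β hβ, mul_one]
  rw [hp] at hcomm
  have huQ : u ∈ pCore 2 G := by
    have := hQ
    rwa [ThreeTrans.inv_eq hD hh] at this
  have hfu : Commute f u := hc.symm.mul_right hfe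
  -- the effect of `γ` on `u`
  have hγu : γ * u * γ = u * w := by
    set s := γ * β with hs
    have hsR : s ∈ R := by
      have := mul_mem hγR hβR
      have e1 : γ * α * (β * α) = γ * β := by
        rw [mul_assoc, ← mul_assoc α β, (hA.comm α S.alpha_mem β hβ).eq, mul_assoc β α α,
          S.alpha_sq, mul_one]
      rwa [e1] at this
    have e1 : γ = β * s := by
      rw [hs, (hA.comm γ hγ β hβ).eq, ← mul_assoc, hA.sq β hβ, one_mul]
    have hus : Commute u s := S.core_fix huQ hsR
    have hsβ : Commute β s := hA.comm β hβ s (S.le_A hsR)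
    have e2 : u * β * u⁻¹ = w * β := by
      have hui : u⁻¹ = e * h := by
        rw [hu, mul_inv_rev, ThreeTrans.inv_eq hD heD, ThreeTrans.inv_eq hD hh]
      have hwb : w * β = e * β * e := by
        rw [(hA.comm w hwA β hβ).eq, hw, ← mul_assoc β β, hA.sq β hβ, one_mul]
      calc u * β * u⁻¹ = h * (e * β * e) * h := by rw [hu, ← hu, hui, hu]; simp only [mul_assoc]
        _ = (e * β * e) * h * h := by
            rw [((hhe.mul_right hhβ).mul_right hhe).eq]
        _ = _ := by rw [hwb, mul_assoc, mul_self hD hh, mul_one]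
    calc γ * u * γ = β * (s * u) * (β * s) := by rw [e1]; simp only [mul_assoc]
      _ = β * (u * s) * (s * β) := by rw [hus.eq, hsβ.eq]
      _ = β * u * β := by
          simp only [mul_assoc]
          rw [← mul_assoc s s β, S.sq2 s hsR, one_mul]
      _ = β * (u * β * u⁻¹) * u := by group
      _ = w * u := by
          rw [e2, ← mul_assoc β w β, (hA.comm β hβ w hwA).eq, mul_assoc w β β, hA.sq β hβ, mul_one]
      _ = u * w := by
          have : Commute u w := by
            rw [hu]; exact ((hwW.commute_of_commute hg hA heD hh hhe.symm)).mul_left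
              (hwW.commute_self hA hee)
          exact this.eq.symm
  -- compare
  have hb : f * γ * (u * (w * r)) * (f * γ)⁻¹ = u * (w * r) := by
    rw [hcomm.eq, mul_inv_cancel_right]
  have hγi : γ⁻¹ = γ := hA.inv_eq hγ
  have hγwr : γ * (w * r) * γ = w * r := by
    rw [(hA.comm γ hγ _ (mul_mem hwA (S.le_A hrR))).eq, mul_assoc, hA.sq γ hγ, mul_one]
  have hb' : f * γ * (u * (w * r)) * (f * γ)⁻¹ = u * (f * r * f) := by
    have hfi : f⁻¹ = f := ThreeTrans.inv_eq hD hf
    calc f * γ * (u * (w * r)) * (f * γ)⁻¹ = f * ((γ * u * γ) * (γ * (w * r) * γ)) * f := by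
          rw [mul_inv_rev, hγi, hfi]
          simp only [mul_assoc]
          rw [← mul_assoc γ γ (w * (r * (γ * f))), hA.sq γ hγ, one_mul]
      _ = f * (u * (w * (w * r))) * f := by rw [hγu, hγwr]; simp only [mul_assoc]
      _ = f * (u * r) * f := by rw [← mul_assoc w w r, hA.sq w hwA, one_mul]
      _ = _ := by rw [← mul_assoc f u r, hfu.eq]; simp only [mul_assoc]
  rw [hb'] at hb
  exact mul_left_cancel hb

/-- The translations by the 2-core form a normal subgroup of `R`, hence are trivial or everything. -/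
theorem core_translations [Finite G] :
    (∀ q ∈ pCore 2 G, α * (q * α * q⁻¹) = 1) ∨
      ∀ r ∈ R, ∃ q ∈ pCore 2 G, α * (q * α * q⁻¹) = r := by
  let δ : G → G := fun q => α * (q * α * q⁻¹)
  have hδR : ∀ q, δ q ∈ R := fun q => S.conj_mul_mem q S.alpha_mem
  have hqe : ∀ q, q * α * q⁻¹ = α * δ q := fun q => by
    show q * α * q⁻¹ = α * (α * (q * α * q⁻¹))
    rw [← mul_assoc α α, S.alpha_sq, one_mul]
  have hmul : ∀ p ∈ pCore 2 G, ∀ q, δ (p * q) = δ p * δ q := by
    intro p hp q
    show α * (p * q * α * (p * q)⁻¹) = _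
    have e : p * q * α * (p * q)⁻¹ = (p * α * p⁻¹) * (p * δ q * p⁻¹) := by
      calc p * q * α * (p * q)⁻¹ = p * (q * α * q⁻¹) * p⁻¹ := by group
        _ = p * (α * δ q) * p⁻¹ := by rw [hqe]
        _ = _ := by group
    rw [e, (S.core_fix hp (hδR q)).eq, mul_inv_cancel_right, ← mul_assoc]
  let T : Subgroup G :=
    { carrier := {r | ∃ q ∈ pCore 2 G, δ q = r}
      one_mem' := ⟨1, one_mem _, by simp [δ, S.alpha_sq]⟩
      mul_mem' := by
        rintro _ _ ⟨p, hp, rfl⟩ ⟨q, hq, rfl⟩
        exact ⟨p * q, mul_mem hp hq, hmul p hp q⟩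
      inv_mem' := by
        rintro _ ⟨p, hp, rfl⟩
        refine ⟨p⁻¹, inv_mem hp, ?_⟩
        rw [eq_comm, inv_eq_iff_mul_eq_one, ← hmul p hp, mul_inv_cancel]
        simp [δ, S.alpha_sq] }
  have hT : T.Normal := ⟨by
    rintro _ ⟨q, hq, rfl⟩ g
    refine ⟨g * q * g⁻¹, Subgroup.Normal.conj_mem inferInstance q hq g, ?_⟩
    show δ (g * q * g⁻¹) = g * δ q * g⁻¹
    set s := g * α * g⁻¹ * α⁻¹ with hs
    have hsR : s ∈ R := S.cen g
    set q' := g * q * g⁻¹
    have e1 : g * α * g⁻¹ = s * α := by rw [hs, inv_mul_cancel_right]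
    have e2 : g * δ q * g⁻¹ = (g * α * g⁻¹) * (q' * (g * α * g⁻¹) * q'⁻¹) := by
      show g * (α * (q * α * q⁻¹)) * g⁻¹ =
        (g * α * g⁻¹) * ((g * q * g⁻¹) * (g * α * g⁻¹) * (g * q * g⁻¹)⁻¹)
      group
    have hsq : Commute q' s := S.core_fix (Subgroup.Normal.conj_mem inferInstance q hq g) hsR
    rw [e2, e1]
    show α * (q' * α * q'⁻¹) = _
    calc α * (q' * α * q'⁻¹) = (s * s) * α * (q' * α * q'⁻¹) := by rw [S.sq2 s hsR, one_mul]
      _ = s * (α * s) * (q' * α * q'⁻¹) := by
          rw [mul_assoc s s α, ← (S.alpha_comm s hsR).eq]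
      _ = s * α * ((s * q') * α * q'⁻¹) := by simp only [mul_assoc]
      _ = _ := by rw [← hsq.eq]; simp only [mul_assoc]⟩
  rcases S.min T hT (by rintro _ ⟨q, -, rfl⟩; exact hδR q) with h | h
  · left
    intro q hq
    have : δ q ∈ T := ⟨q, hq, rfl⟩
    rwa [h, Subgroup.mem_bot] at this
  · exact Or.inr fun r hr => h.ge hr

/-- Members commuting with each other act in the same way if all translations occur. -/
theorem act_of_commute [Finite G]
    (hfull : ∀ r ∈ R, ∃ q ∈ pCore 2 G, α * (q * α * q⁻¹) = r) {h f : G} (hh : h ∈ D) (hf : f ∈ D)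
    (hc : Commute h f) {r : G} (hr : r ∈ R) : f * r * f = h * r * h := by
  obtain ⟨q, hq, rfl⟩ := hfull r hr
  obtain ⟨β, hβE, hβ, hβR, hhβ⟩ := S.partnerA hh
  rw [← S.delta_eq hq hβ hβR, S.conj_delta hh hf hβE hβ hβR hhβ hq hc,
    S.conj_delta hh hh hβE hβ hβR hhβ hq (Commute.refl h)]

/-- Products of non-commuting members are fixed-point-free if all translations occur. -/
theorem S3_eq_one [Finite G]
    (hfull : ∀ r ∈ R, ∃ q ∈ pCore 2 G, α * (q * α * q⁻¹) = r) {h x : G} (hh : h ∈ D) (hx : x ∈ D)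
    (hn : ¬ Commute h x) {r : G} (hr : r ∈ R) : S3 (h * x) r = 1 := by
  obtain ⟨q, hq, rfl⟩ := hfull r hr
  have hD := S.classD.1
  have hg := group_of_class S.classD
  have hA := S.elemA
  obtain ⟨β, hβE, hβ, hβR, hhβ⟩ := S.partnerA hh
  obtain ⟨β', hβE', hβ', hβR', -⟩ := S.partnerA hx
  rw [← S.delta_eq hq hβ hβR]
  set r := β * (q * β * q⁻¹) with hrdef
  have hrR : r ∈ R := S.conj_mul_mem q hβ
  set e := q * h * q⁻¹ with he
  have heD : e ∈ D := hg.2.1 q h hh
  have hQ : h⁻¹ * e ∈ pCore 2 G := inv_mul_conj_mem hq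
  have hne : ¬ Commute e x := fun hc => hn (vRel_imp hD heD hh hx (inv_mul_mem_symm hQ) hc)
  have hρ : q * β * q⁻¹ ∈ S.A := hA.conj_mem q hβ
  have haE : e * (q * β * q⁻¹) ∈ E := by
    have := (group_of_class S.classE).2.1 q _ hβE
    simpa [he, mul_assoc] using this
  have h1 := S.S3_partner heD hx hne hρ hβ' haE hβE' (hhβ.map (MulAut.conj q).toMonoidHom)
  have h2 := S.S3_partner hh hx hn hβ hβ' hβE hβE' hhβ
  set s := β * β' with hsdef
  have hsR : s ∈ R := by
    have := mul_mem hβR hβR'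
    have e1 : β * α * (β' * α) = β * β' := by
      rw [mul_assoc, ← mul_assoc α β', (hA.comm α S.alpha_mem β' hβ').eq, mul_assoc β' α α,
        S.alpha_sq, mul_one]
    rwa [e1] at this
  have e1 : q * β * q⁻¹ = β * r := by rw [hrdef, ← mul_assoc, hA.sq β hβ, one_mul]
  have e2 : β' = β * s := by rw [hsdef, ← mul_assoc, hA.sq β hβ, one_mul]
  have hk : (e * h)⁻¹ = h * e ∧ h * e ∈ pCore 2 G := by
    rw [mul_inv_rev, ThreeTrans.inv_eq hD hh, ThreeTrans.inv_eq hD heD]
    refine ⟨rfl, ?_⟩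
    rwa [ThreeTrans.inv_eq hD hh] at hQ
  -- the two sums agree on `R`
  have hS : ∀ t ∈ R, S3 (e * x) t = S3 (h * x) t := by
    intro t ht
    set k := e * h with hkdef
    have hkQ : k ∈ pCore 2 G := by
      rw [← inv_inv k, hk.1]; exact inv_mem hk.2
    have ek : e * x = k * (h * x) := by
      rw [hkdef]; simp only [mul_assoc, mul_self_cancel hD hh]
    rw [ek]
    unfold S3
    set g := h * x
    have m1 : g * t * g⁻¹ ∈ R := S.normal.conj_mem t ht g
    have a1 : k * g * t * (k * g)⁻¹ = g * t * g⁻¹ := by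
      calc k * g * t * (k * g)⁻¹ = k * (g * t * g⁻¹) * k⁻¹ := by group
        _ = _ := by rw [(S.core_fix hkQ m1).eq, mul_inv_cancel_right]
    have a2 : (k * g)⁻¹ * t * (k * g) = g⁻¹ * t * g := by
      calc (k * g)⁻¹ * t * (k * g) = g⁻¹ * (k⁻¹ * (t * k)) * g := by group
        _ = _ := by rw [← (S.core_fix hkQ ht).eq, inv_mul_cancel_left]
    rw [a1, a2]
  rw [e2, S3_mul hA _ hβ (S.le_A hsR)] at h2
  rw [e1, e2, S3_mul hA _ hβ (S.le_A hrR), S3_mul hA _ hβ (S.le_A hsR), hS r hrR, hS s hsR,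
    (left_eq_mul.1 h2), mul_one] at h1
  exact mul_eq_left.1 h1

end Two

end Cfsg.Agent.ThreeTransUnique
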