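/-
The 2-core centralises the twisting element.

Main results:
* `Two.core_commute` : `pCore 2 G` centralises `α`
-/
import Cfsg.Agent.Lib.ThreeTransUnique.Translations

namespace Cfsg.Agent.ThreeTransUnique

open Cfsg Cfsg.Agent.ThreeTrans

variable {G : Type*} [Group G] {D E : Set G} {R : Subgroup G} {d α : G}

namespace Two

variable [Finite G] (S : Two D E R d α)
include S

/-- Not all elements of `R` are translations by the 2-core. -/
theorem not_full (hfull : ∀ r ∈ R, ∃ q ∈ pCore 2 G, α * (q * α * q⁻¹) = r) : False := by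
  have := S.normal
  have hD := S.classD.1
  have hg := group_of_class S.classD
  letI : CommGroup R :=
    { (inferInstance : Group R) with mul_comm := fun a b => Subtype.ext (S.comm a a.2 b b.2).eq }
  set φ : G →* MulAut R := MulAut.conjNormal with hφ
  have hφa : ∀ g (r : R), ((φ g r : R) : G) = g * r * g⁻¹ := fun g r => MulAut.conjNormal_apply g r
  have hφinv : ∀ h ∈ D, φ h * φ h = 1 := fun h hh => by rw [← map_mul, mul_self hD hh, map_one]
  have hφQ : ∀ q ∈ pCore 2 G, φ q = 1 := fun q hq => MulEquiv.ext fun r => Subtype.ext (by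
    rw [hφa, MulAut.one_apply, (S.core_fix hq r.2).eq, mul_inv_cancel_right])
  have hcomm : ∀ h ∈ D, ∀ f ∈ D, Commute h f → φ h = φ f := fun h hh f hf hc =>
    MulEquiv.ext fun r => Subtype.ext (by
      rw [hφa, hφa, inv_eq hD hh, inv_eq hD hf, S.act_of_commute hfull hh hf hc r.2])
  have hncomm : ∀ h ∈ D, ∀ f ∈ D, φ h ≠ φ f → ¬ Commute h f := fun h hh f hf hne hc =>
    hne (hcomm h hh f hf hc)
  have hvrel : ∀ h ∈ D, ∀ f ∈ D, φ h = φ f → VRel D h f := fun h hh f hf e =>
    S.vRel_of_act hh hf fun r hr => by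
      have h1 := hφa h ⟨r, hr⟩
      rw [e, hφa f ⟨r, hr⟩, inv_eq hD hh, inv_eq hD hf] at h1
      exact h1.symm
  have hvcomm : ∀ h ∈ D, ∀ f ∈ D, φ h = φ f → Commute h f := fun h hh f hf e =>
    ((hvrel h hh f hf e f hf).1 (Commute.refl f))
  have hFp : ∀ h ∈ D, ∀ f ∈ D, φ h ≠ φ f → FpThree (φ h * φ f) := by
    intro h hh f hf hne r
    apply Subtype.ext
    rw [← map_mul, ← map_inv, Subgroup.coe_mul, Subgroup.coe_mul, hφa, hφa, inv_inv,
      OneMemClass.coe_one]
    exact S.S3_eq_one hfull hh hf (hncomm h hh f hf hne) r.2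
  have hcube : ∀ h ∈ D, ∀ f ∈ D, (φ h * φ f) ^ 3 = 1 := by
    intro h hh f hf
    by_cases e : φ h = φ f
    · rw [e, hφinv f hf, one_pow]
    · rw [← map_mul, ← map_pow, pow_three_of_not_commute hD hh hf (hncomm h hh f hf e), map_one]
  have hmove : ∀ h ∈ D, φ h ≠ 1 := by
    intro h hh e
    obtain ⟨r, hr, hne⟩ := S.moveR hh
    apply hne
    have h1 := hφa h ⟨r, hr⟩
    rw [e, MulAut.one_apply] at h1
    show h * r = r * h
    calc h * r = h * r * h⁻¹ * h := by group
      _ = _ := by rw [← h1]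
  have hRne : ∀ t : R, t * t = 1 := fun t => Subtype.ext (S.sq2 t t.2)
  -- only three images
  have htri : ∀ a ∈ D, ∀ b ∈ D, φ a ≠ φ b → ∀ c ∈ D,
      φ c = φ a ∨ φ c = φ b ∨ φ c = φ a * φ b * φ a := by
    intro a ha b hb hab c hc
    by_contra hcon
    simp only [not_or] at hcon
    obtain ⟨hca, hcb, hcy⟩ := hcon
    set P := φ a with hP
    set X := φ b with hX
    set H := φ c with hH
    have hPP : P * P = 1 := hφinv a ha
    have hXX : X * X = 1 := hφinv b hb
    have hHH : H * H = 1 := hφinv c hc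
    set g := P * X with hgdef
    set k := P * H with hkdef
    have hg3 : g ^ 3 = 1 := hcube a ha b hb
    have hk3 : k ^ 3 = 1 := hcube a ha c hc
    have hy : a * b * a ∈ D := ThreeTrans.conj_mem hD hg.2.1 ha hb
    have hgk : g * k = (P * X * P) * H := by rw [hgdef, hkdef]; simp only [mul_assoc]
    have hgk3 : (g * k) ^ 3 = 1 := by
      have h1 := hcube _ hy c hc
      rwa [map_mul, map_mul, ← hgk] at h1
    have hgik : g⁻¹ * k = X * H := by
      rw [hgdef, hkdef, mul_inv_rev, inv_eq_of_mul_eq_one_left hXX, inv_eq_of_mul_eq_one_left hPP,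
        mul_assoc, ← mul_assoc P P, hPP, one_mul]
    have hgik3 : (g⁻¹ * k) ^ 3 = 1 := by rw [hgik]; exact hcube b hb c hc
    have c1 : Commute g (k * g * k⁻¹) := commute_conj_of_cubes hk3 hgk3 hgik3
    have c2 : Commute k (g * k * g⁻¹) := by
      refine commute_conj_of_cubes hg3 ?_ ?_
      · have e : k * g = k * (g * k) * k⁻¹ := by group
        rw [e, conj_pow, hgk3, mul_one, mul_inv_cancel]
      · have e : k⁻¹ * g = (g⁻¹ * k)⁻¹ := by group
        rw [e, inv_pow, hgik3, inv_one]
    set e := g⁻¹ * (k * g * k⁻¹) with hedef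
    have hge : Commute g e := ((Commute.refl g).inv_right).mul_right c1
    have hke : Commute k e := by
      have h1 : Commute (g⁻¹ * k * g) k := by
        have := c2.map (MulAut.conj g⁻¹).toMonoidHom
        simpa [mul_assoc] using this
      have h2 : e = (g⁻¹ * k * g) * k⁻¹ := by rw [hedef]; group
      rw [h2]
      exact h1.symm.mul_right (Commute.refl k).inv_right
    have he3 : e ^ 3 = 1 := by
      rw [hedef, (c1.inv_left).mul_pow, inv_pow, hg3, conj_pow, hg3]
      simp
    have hge1 : g * e = k * g * k⁻¹ := by rw [hedef, mul_inv_cancel_left]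
    have hkk : k * g * k⁻¹ = g * e := hge1.symm
    have hge2 : g * e⁻¹ = k⁻¹ * g * k := by
      have e1 : k * (g * e⁻¹) * k⁻¹ = g := by
        calc k * (g * e⁻¹) * k⁻¹ = (k * g * k⁻¹) * (k * e⁻¹ * k⁻¹) := by group
          _ = _ := by rw [hkk, hke.inv_right.eq, mul_inv_cancel_right, mul_inv_cancel_right]
      calc g * e⁻¹ = k⁻¹ * (k * (g * e⁻¹) * k⁻¹) * k := by group
        _ = _ := by rw [e1]
    have hconjFp : ∀ w : G, ∀ p ∈ D, ∀ q ∈ D, φ p ≠ φ q →
        FpThree (φ w * (φ p * φ q) * (φ w)⁻¹) := by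
      intro w p hp q hq hne
      have h1 := hFp _ (hg.2.1 w p hp) _ (hg.2.1 w q hq) (fun h => hne (by
        rw [map_mul, map_mul, map_mul, map_mul] at h
        exact mul_left_cancel (mul_right_cancel h)))
      have e1 : φ (w * p * w⁻¹) * φ (w * q * w⁻¹) = φ w * (φ p * φ q) * (φ w)⁻¹ := by
        simp only [map_mul, map_inv]; group
      rwa [e1] at h1
    have hkφ : φ (a * c) = k := by rw [map_mul]
    have f0 : FpThree g := hFp a ha b hb hab
    have fk : FpThree k := hFp a ha c hc (Ne.symm hca)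
    have f1 : FpThree (g * e) := by
      have := hconjFp (a * c) a ha b hb hab
      rwa [hkφ, hkk] at this
    have f1' : FpThree (g * e⁻¹) := by
      have := hconjFp (a * c)⁻¹ a ha b hb hab
      rwa [map_inv, hkφ, inv_inv, ← hge2] at this
    have he1 : e = 1 := by
      ext r
      have h1 := four_line hRne hge f0 f1 f1' r
      rw [MulAut.one_apply]
      have h3e : e (e r) = e⁻¹ r := by
        have hee : e * e = e⁻¹ := eq_inv_of_mul_eq_one_left (by rw [← he3]; simp [pow_succ, mul_assoc])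
        rw [← MulAut.mul_apply, hee]
      have h2 : e (r * e r * e⁻¹ r) = r * e r * e⁻¹ r := by
        rw [map_mul, map_mul, h3e, show e (e⁻¹ r) = r from MulAut.apply_inv_self _ e r]
        ac_rfl
      rw [h1] at h2
      exact congrArg Subtype.val h2
    have hcomm' : Commute g k := by
      show g * k = k * g
      calc g * k = g * e * k := by rw [he1, mul_one]
        _ = k * g := by rw [← hkk, inv_mul_cancel_right]
    have f2 : FpThree (g * k) := by
      have := hFp _ hy c hc (by rw [map_mul, map_mul]; exact Ne.symm hcy)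
      rwa [map_mul, map_mul, ← hgk] at this
    have f2' : FpThree (g * k⁻¹) := by
      have := hconjFp a b hb c hc (Ne.symm hcb)
      have e1 : g * k⁻¹ = φ a * (φ b * φ c) * (φ a)⁻¹ := by
        rw [hkdef, hgdef, mul_inv_rev, inv_eq_of_mul_eq_one_left hHH]
        simp only [mul_assoc]
        rfl
      rwa [← e1] at this
    obtain ⟨r, hr, hne⟩ := S.moveR ha
    have h1 := four_line hRne hcomm' f0 f2 f2' ⟨r, hr⟩
    rw [fk] at h1
    exact hne (congrArg Subtype.val h1.symm ▸ Commute.one_right a : Commute a ((⟨r, hr⟩ : R) : G))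
  -- two congruence classes generate
  have hgen : ∀ a ∈ D, ∀ b ∈ D, φ a ≠ φ b →
      Subgroup.closure {h | h ∈ D ∧ (φ h = φ a ∨ φ h = φ b)} = ⊤ := by
    intro a ha b hb hab
    rw [eq_top_iff, ← S.classD.2.2, Subgroup.closure_le]
    intro c hc
    rcases htri a ha b hb hab c hc with h | h | h
    · exact Subgroup.subset_closure ⟨hc, Or.inl h⟩
    · exact Subgroup.subset_closure ⟨hc, Or.inr h⟩
    · have hm : a ∈ Subgroup.closure {h | h ∈ D ∧ (φ h = φ a ∨ φ h = φ b)} :=
        Subgroup.subset_closure ⟨ha, Or.inl rfl⟩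
      have hm' : a * c * a ∈ Subgroup.closure {h | h ∈ D ∧ (φ h = φ a ∨ φ h = φ b)} := by
        refine Subgroup.subset_closure ⟨ThreeTrans.conj_mem hD hg.2.1 ha hc, Or.inr ?_⟩
        rw [map_mul, map_mul, h]
        simp only [mul_assoc, hφinv a ha, mul_one]
        rw [← mul_assoc, hφinv a ha, one_mul]
      have h1 := mul_mem (mul_mem hm hm') hm
      simpa [mul_assoc, mul_self hD ha, mul_self_cancel hD ha] using h1
  -- the subgroup generated by the congruent pairs and `R`
  set P : Set G := {u | ∃ h ∈ D, ∃ k ∈ D, φ h = φ k ∧ u = h * k} with hP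
  set T := Subgroup.closure (P ∪ (R : Set G)) with hT
  have hPQ : ∀ u ∈ P, u ∈ pCore 2 G := by
    rintro _ ⟨h, hh, k, hk, e, rfl⟩
    exact mul_mem_pCore_two_of_vRel hD hg.2.1 hh hk (hvrel h hh k hk e)
  have hRQ : R ≤ pCore 2 G := S.elemR.le_pCore
  have hTn : T.Normal := by
    have hs : ∀ g : G, ∀ t ∈ T, g * t * g⁻¹ ∈ T := by
      intro g t ht
      induction ht using Subgroup.closure_induction with
      | mem z hz =>
        refine Subgroup.subset_closure ?_
        rcases hz with ⟨h, hh, k, hk, e, rfl⟩ | hz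
        · exact Or.inl ⟨g * h * g⁻¹, hg.2.1 g h hh, g * k * g⁻¹, hg.2.1 g k hk,
            by simp [map_mul, e], by group⟩
        · exact Or.inr (S.normal.conj_mem z hz g)
      | one => simp
      | mul u v _ _ hu hv => have := mul_mem hu hv; simpa [mul_assoc] using this
      | inv u _ hu => have := inv_mem hu; simpa [mul_assoc] using this
    exact ⟨fun t ht g => hs g t ht⟩
  have hφT : ∀ t ∈ T, φ t = 1 := fun t ht => hφQ t ((Subgroup.closure_le (K := pCore 2 G)).2
    (Set.union_subset hPQ hRQ) ht)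
  set q := QuotientGroup.mk' T with hq
  obtain ⟨x, hx, hdx⟩ : ∃ x ∈ D, φ d ≠ φ x := by
    by_contra hcon
    have hall : ∀ x ∈ D, Commute x d := fun x hx =>
      hvcomm x hx d S.mem (by_contra fun h => hcon ⟨x, hx, Ne.symm h⟩)
    obtain ⟨r, hr, hne⟩ := S.moveR S.mem
    exact hne (Subgroup.mem_center_iff.1 (commute_all_of_gen S.classD.2.2 hall) r).symm
  have hqeq : ∀ u ∈ D, ∀ v ∈ D, φ u = φ v → q u = q v := fun u hu v hv e =>
    QuotientGroup.eq.2 (Subgroup.subset_closure
      (Or.inl ⟨u, hu, v, hv, e, by rw [inv_eq hD hu]⟩))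
  set g0 := q d * q x with hg0
  have hdd : q d * q d = 1 := by rw [← map_mul, S.dd, map_one]
  have hxx : q x * q x = 1 := by rw [← map_mul, mul_self hD hx, map_one]
  have hn := hncomm d S.mem x hx hdx
  have hg03 : g0 ^ 3 = 1 := by
    rw [hg0, ← map_mul, ← map_pow, pow_three_of_not_commute hD S.mem hx hn, map_one]
  have hg02 : g0 ^ 2 = q x * q d := by
    have h1 : g0 * g0 * g0 = 1 := by rw [← hg03]; simp [pow_succ, mul_assoc]
    rw [pow_two, eq_inv_of_mul_eq_one_left h1, hg0, mul_inv_rev, inv_eq_of_mul_eq_one_left hdd,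
      inv_eq_of_mul_eq_one_left hxx]
  have hsemi : SemiconjBy (q d) (g0 ^ 2) g0 := by
    show q d * g0 ^ 2 = g0 * q d
    rw [hg02, hg0, ← mul_assoc]
  have hg0inv : g0⁻¹ = g0 ^ 2 := inv_eq_of_mul_eq_one_right (by rw [← pow_succ']; exact hg03)
  have hform : ∀ γ : G, ∃ n : ℕ, q γ = g0 ^ n ∨ q γ = q d * g0 ^ n := by
    intro γ
    have hγ : γ ∈ Subgroup.closure D := by rw [S.classD.2.2]; exact Subgroup.mem_top γ
    induction hγ using Subgroup.closure_induction with
    | mem h hh =>
      rcases htri d S.mem x hx hdx h hh with e | e | e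
      · exact ⟨0, Or.inr (by rw [pow_zero, mul_one, hqeq h hh d S.mem e])⟩
      · exact ⟨1, Or.inr (by rw [pow_one, hg0, ← mul_assoc, hdd, one_mul, hqeq h hh x hx e])⟩
      · refine ⟨2, Or.inr ?_⟩
        rw [hqeq h hh (d * x * d) (ThreeTrans.conj_mem hD hg.2.1 S.mem hx)
          (by rw [e, map_mul, map_mul]), map_mul, map_mul, hg02, mul_assoc]
    | one => exact ⟨0, Or.inl (by rw [map_one, pow_zero])⟩
    | mul u v _ _ hu hv =>
      obtain ⟨n, hu | hu⟩ := hu <;> obtain ⟨m, hv | hv⟩ := hv <;> rw [map_mul, hu, hv]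
      · exact ⟨n + m, Or.inl (pow_add g0 n m).symm⟩
      · refine ⟨2 * n + m, Or.inr ?_⟩
        rw [← mul_assoc, ← (hsemi.pow_right n).eq, ← pow_mul, mul_assoc, ← pow_add]
      · exact ⟨n + m, Or.inr (by rw [mul_assoc, ← pow_add])⟩
      · refine ⟨2 * n + m, Or.inl ?_⟩
        rw [← mul_assoc, mul_assoc (q d), ← (hsemi.pow_right n).eq, ← mul_assoc (q d), hdd,
          one_mul, ← pow_mul, ← pow_add]
    | inv u _ hu =>
      obtain ⟨n, hu | hu⟩ := hu <;> rw [map_inv, hu]
      · exact ⟨2 * n, Or.inl (by rw [← inv_pow, hg0inv, ← pow_mul])⟩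
      · refine ⟨2 * (2 * n), Or.inr ?_⟩
        rw [mul_inv_rev, inv_eq_of_mul_eq_one_left hdd, ← inv_pow, hg0inv, ← pow_mul,
          ← (hsemi.pow_right (2 * n)).eq, ← pow_mul]
  have hcore : pCore 2 G ≤ T := by
    intro γ hγ
    have hfac : ∀ u v : G, q u = q v → φ u = φ v := fun u v h => by
      have h1 := hφT _ (QuotientGroup.eq.1 h)
      rw [map_mul, map_inv, inv_mul_eq_one] at h1
      exact h1
    obtain ⟨n, hn' | hn'⟩ := hform γ
    · have e1 : (φ d * φ x) ^ n = 1 := by
        rw [← hφQ γ hγ, ← map_mul, ← map_pow]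
        exact (hfac _ _ (by rw [hn', map_pow, map_mul])).symm
      have e3 := hcube d S.mem x hx
      have hdvd : 3 ∣ n := by
        by_contra hnd
        apply hdx
        have h1 := eq_one_of_pow_coprime e3 e1 ((Nat.prime_three.coprime_iff_not_dvd).2 hnd)
        rw [eq_inv_of_mul_eq_one_left h1, inv_eq_of_mul_eq_one_left (hφinv x hx)]
      obtain ⟨m, rfl⟩ := hdvd
      rw [pow_mul, hg03, one_pow] at hn'
      exact (QuotientGroup.eq_one_iff γ).1 hn'
    · exfalso
      have e1 : φ d * (φ d * φ x) ^ n = 1 := by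
        rw [← hφQ γ hγ, ← map_mul φ d x, ← map_pow, ← map_mul]
        exact (hfac _ _ (by rw [hn', map_mul, map_pow, map_mul])).symm
      have e3 : φ d ^ 3 = 1 := by
        rw [eq_inv_of_mul_eq_one_left e1, inv_pow, ← pow_mul, mul_comm n 3, pow_mul,
          hcube d S.mem x hx, one_pow, inv_one]
      exact hmove d S.mem (eq_one_of_pow_coprime (by rw [pow_two, hφinv d S.mem]) e3 (by norm_num))
  -- commutators of `T` are central
  set Z := Subgroup.center G
  set ρ := QuotientGroup.mk' Z with hρ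
  have hpair : ∀ u ∈ P ∪ (R : Set G), ∀ v ∈ P ∪ (R : Set G), Commute (ρ u) (ρ v) := by
    have hPR : ∀ u ∈ P, ∀ v ∈ R, Commute u v := fun u hu v hv => S.core_fix (hPQ u hu) hv
    rintro u hu' v hv'
    rcases hu' with hu | hu <;> rcases hv' with hv | hv
    rotate_left
    · exact (hPR u hu v hv).map ρ
    · exact (hPR v hv u hu).symm.map ρ
    · exact (S.comm u hu v hv).map ρ
    obtain ⟨h, hh, k, hk, e, rfl⟩ := hu
    obtain ⟨h', hh', k', hk', e', rfl⟩ := hv
    by_cases hhh : φ h = φ h'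
    · refine Commute.map ?_ ρ
      exact ((hvcomm h hh h' hh' hhh).mul_right (hvcomm h hh k' hk' (hhh.trans e'))).mul_left
        ((hvcomm k hk h' hh' (e.symm.trans hhh)).mul_right
          (hvcomm k hk k' hk' (e.symm.trans (hhh.trans e'))))
    set u := h * k
    set u' := h' * k'
    set Eh := fun h : G => Subgroup.closure {w | ∃ l ∈ D, φ l = φ h ∧ w = h * l}
    have hmemE : ∀ a ∈ D, ∀ b ∈ D, φ a = φ b → a * b ∈ Eh a := fun a _ b hb e =>
      Subgroup.subset_closure ⟨b, hb, e.symm, rfl⟩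
    have hconjE : ∀ a ∈ D, ∀ b ∈ D, φ a = φ b → ∀ w : G, φ w = 1 → w * (a * b) * w⁻¹ ∈ Eh a := by
      intro a ha b hb e w hw
      have ea : φ a = φ (w * a * w⁻¹) := by simp [map_mul, hw]
      have eb : φ a = φ (w * b * w⁻¹) := by simp [map_mul, hw, e]
      have h1 := mul_mem (inv_mem (hmemE a ha _ (hg.2.1 w a ha) ea))
        (hmemE a ha _ (hg.2.1 w b hb) eb)
      rw [mul_inv_rev, inv_eq hD ha, inv_eq hD (hg.2.1 w a ha), mul_assoc,
        mul_self_cancel hD ha] at h1
      simpa [mul_assoc] using h1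
    have hEc : ∀ a ∈ D, ∀ f ∈ D, φ f = φ a → ∀ w ∈ Eh a, Commute f w := by
      intro a ha f hf e w hw
      have hc : Eh a ≤ Subgroup.centralizer {f} := (Subgroup.closure_le _).2 (by
        rintro _ ⟨l, hl, el, rfl⟩
        exact Subgroup.mem_centralizer_singleton_iff.2
          ((hvcomm f hf a ha e).mul_right (hvcomm f hf l hl (e.trans el.symm))).symm.eq)
      exact (Subgroup.mem_centralizer_singleton_iff.1 (hc hw)).symm
    set c := u * u' * u⁻¹ * u'⁻¹ with hc
    have hφu : φ u = 1 := hφQ u (hPQ u ⟨h, hh, k, hk, e, rfl⟩)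
    have hφu' : φ u' = 1 := hφQ u' (hPQ u' ⟨h', hh', k', hk', e', rfl⟩)
    have hc1 : c ∈ Eh h := by
      have h1 := mul_mem (hmemE h hh k hk e) (inv_mem (hconjE h hh k hk e u' hφu'))
      simpa [hc, u, u', mul_assoc] using h1
    have hc2 : c ∈ Eh h' := by
      have h1 := mul_mem (hconjE h' hh' k' hk' e' u hφu) (inv_mem (hmemE h' hh' k' hk' e'))
      simpa [hc, u, u', mul_assoc] using h1
    have hcz : c ∈ Subgroup.center G := by
      refine commute_all_of_gen (hgen h hh h' hh' hhh) ?_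
      rintro f ⟨hf, ef | ef⟩
      · exact hEc h hh f hf ef c hc1
      · exact hEc h' hh' f hf ef c hc2
    have h1 : ρ c = 1 := (QuotientGroup.eq_one_iff c).2 hcz
    rw [hc, map_mul, map_mul, map_mul, map_inv, map_inv, mul_inv_eq_one,
      mul_inv_eq_iff_eq_mul] at h1
    exact h1
  have hTab : ∀ u ∈ T, ∀ v ∈ T, Commute (ρ u) (ρ v) := by
    intro u hu v hv
    induction hu using Subgroup.closure_induction with
    | mem a ha =>
      induction hv using Subgroup.closure_induction with
      | mem b hb => exact hpair a ha b hb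
      | one => rw [map_one]; exact Commute.one_right _
      | mul y z _ _ hy hz => rw [map_mul]; exact hy.mul_right hz
      | inv y _ hy => rw [map_inv]; exact hy.inv_right
    | one => rw [map_one]; exact Commute.one_left _
    | mul y z _ _ hy hz => rw [map_mul]; exact hy.mul_left hz
    | inv y _ hy => rw [map_inv]; exact hy.inv_left
  obtain ⟨r, hr, hne⟩ := S.moveR S.mem
  obtain ⟨γ, hγ, rfl⟩ := hfull r hr
  apply hne
  refine (Subgroup.mem_center_iff.1 ((QuotientGroup.eq_one_iff _).1 ?_) d)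
  have h1 := hTab α (hcore (S.elemA.le_pCore S.alpha_mem)) γ (hcore hγ)
  show ρ (α * (γ * α * γ⁻¹)) = 1
  rw [map_mul, map_mul, map_mul, map_inv, ← h1.eq, mul_assoc, mul_inv_cancel, mul_one, ← map_mul,
    S.alpha_sq, map_one]

/-- The 2-core centralises `α`. -/
theorem core_commute {q : G} (hq : q ∈ pCore 2 G) : Commute q α := by
  rcases S.core_translations with h | h
  · have h1 := h q hq
    have h2 : q * α * q⁻¹ = α := by rw [eq_inv_of_mul_eq_one_right h1, S.alpha_inv]
    exact mul_inv_eq_iff_eq_mul.1 h2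
  · exact (S.not_full h).elim

end Two

end Cfsg.Agent.ThreeTransUnique
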