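/-
Generation by the neighbourhoods of two non-commuting members, in a group with trivial radical.

Main results:
* `adj_nonempty` : every member commutes with another one
* `orbit_of_neighbourhoods` : a subgroup containing two non-commuting members and their neighbourhoods
  moves the first member to all members joined to it
* `component_le_closure` : the members joined to a given one generate a group containing the component
* `eq_one_of_centralizes` : an element centralising all members joined to a given one is trivial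
-/
import Cfsg.Agent.Lib.ThreeTrans.Structure

namespace Cfsg.Agent.ThreeTransUnique

open Cfsg Cfsg.Agent.ThreeTrans Cfsg.Agent.ThreeTransRank Cfsg.Agent.Components Relation

variable {G : Type*} [Group G] {D : Set G}

/-- Joined in the commuting graph. -/
def Reach (D : Set G) : G → G → Prop :=
  ReflTransGen (fun u v => u ∈ D ∧ v ∈ D ∧ Commute u v)

theorem Reach.symm {u v : G} (h : Reach D u v) : Reach D v u := by
  induction h with
  | refl => exact ReflTransGen.refl
  | @tail w z _ h ih => exact ReflTransGen.head ⟨h.2.1, h.1, h.2.2.symm⟩ ih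

theorem Reach.refl (u : G) : Reach D u u := ReflTransGen.refl

theorem Reach.trans {u v w : G} (h : Reach D u v) (h' : Reach D v w) : Reach D u w :=
  ReflTransGen.trans h h'

theorem Reach.mem {u v : G} (hu : u ∈ D) (h : Reach D u v) : v ∈ D := by
  induction h with
  | refl => exact hu
  | tail _ h _ => exact h.2.1

theorem Reach.conj (hconj : ∀ g : G, ∀ d ∈ D, g * d * g⁻¹ ∈ D) (g : G) {u v : G}
    (h : Reach D u v) : Reach D (g * u * g⁻¹) (g * v * g⁻¹) := by
  induction h with
  | refl => exact ReflTransGen.refl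
  | @tail w z _ h ih =>
    exact ReflTransGen.tail ih ⟨hconj g w h.1, hconj g z h.2.1, h.2.2.map (MulAut.conj g).toMonoidHom⟩

variable [Finite G]

theorem exists_layer_component (hD : IsThreeTranspositionClass D) (h2 : ∃ a ∈ D, ∃ b ∈ D, a ≠ b)
    (hrad : TrivialRadical G) : ∃ L : Subgroup G, IsComponent L ∧ L.Normal := by
  obtain ⟨L, hL, hLn, -⟩ := exists_component hD h2 (centralCores_of_trivialRadical hrad)
  exact ⟨L, hL, hLn⟩

theorem component_le_of_normal (hD : IsThreeTranspositionClass D) (hrad : TrivialRadical G)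
    {L : Subgroup G} (hL : IsComponent L) {N : Subgroup G} [hN : N.Normal] (hN1 : N ≠ ⊥) : L ≤ N := by
  rcases IsComponent.le_or_commutes hL hN.isSubnormal with h | h
  · exact h
  · refine absurd (eq_bot_iff.2 ?_) hN1
    have h1 : N ≤ Subgroup.centralizer (L : Set G) :=
      Subgroup.le_centralizer_iff.1 (Subgroup.commutator_eq_bot_iff_le_centralizer.1 h)
    exact h1.trans ((centralizer_component_le_center hD (centralCores_of_trivialRadical hrad) hL).trans
      (center_eq_bot_of_trivialRadical hrad).le)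

theorem adj_nonempty (hD : IsThreeTranspositionClass D) (h2 : ∃ a ∈ D, ∃ b ∈ D, a ≠ b)
    (hrad : TrivialRadical G) {d : G} (hd : d ∈ D) : (adj D d).Nonempty := by
  obtain ⟨L, hL, -⟩ := exists_layer_component hD h2 hrad
  obtain ⟨k, -, hne, hc⟩ := (component_pairs hD hL hd).2
  exact ⟨_, (group_of_class hD).2.1 k d hd, hne, hc⟩

/-- Fischer's generation lemma. -/
theorem orbit_of_neighbourhoods (hD : IsThreeTranspositionClass D)
    (h2 : ∃ a ∈ D, ∃ b ∈ D, a ≠ b) (hrad : TrivialRadical G)
    {H : Subgroup G} {d d' : G} (hd : d ∈ D) (hd' : d' ∈ D) (hdH : d ∈ H) (hd'H : d' ∈ H)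
    (hA : adj D d ⊆ (H : Set G)) (hA' : adj D d' ⊆ (H : Set G)) (hdd : ¬ Commute d d') :
    ∀ x, Reach D d x → ∃ h ∈ H, h * d * h⁻¹ = x := by
  have hc := centralCores_of_trivialRadical hrad
  have hg := group_of_class hD
  set O : Set G := {x | ∃ h ∈ H, h * d * h⁻¹ = x} with hO
  have hOD : O ⊆ D := by rintro x ⟨h, -, rfl⟩; exact hg.2.1 h d hd
  have hOH : O ⊆ (H : Set G) := by
    rintro x ⟨h, hh, rfl⟩
    exact H.mul_mem (H.mul_mem hh hdH) (H.inv_mem hh)
  have hdO : d ∈ O := ⟨1, H.one_mem, by simp⟩
  have hline : ∀ x ∈ O, ∀ y ∈ D, y ∈ H → ¬ Commute x y → y ∈ O := by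
    intro x hx y hy hyH hxy
    have hxD := hOD hx
    have hxH := hOH hx
    obtain ⟨h, hh, rfl⟩ := hx
    set x := h * d * h⁻¹ with hxdef
    refine ⟨x * y * h, H.mul_mem (H.mul_mem hxH hyH) hh, ?_⟩
    calc x * y * h * d * (x * y * h)⁻¹ = x * y * (h * d * h⁻¹) * (y⁻¹ * x⁻¹) := by group
      _ = x * (y * x * y) * x := by
          rw [← hxdef, inv_eq hg.1 hy, inv_eq hg.1 hxD]; simp only [mul_assoc]
      _ = y := by
          rw [braid hg.1 hy hxD fun h => hxy h.symm]
          simp only [mul_assoc, ThreeTrans.mul_self hg.1 hxD, mul_one, mul_self_cancel hg.1 hxD]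
  -- some member of the orbit commutes with `d`
  obtain ⟨e, he, hed', hcd'⟩ := adj_nonempty hD h2 hrad hd'
  set f := e * d' * d * (e * d')⁻¹ with hf
  have hfO : f ∈ O := ⟨e * d', H.mul_mem (hA' ⟨he, hed', hcd'⟩) hd'H, rfl⟩
  have hfd : f ≠ d := by
    intro h
    rw [hf, mul_inv_rev, inv_eq hg.1 he, inv_eq hg.1 hd'] at h
    have h1 : d' * d * d' = e * d * e := by
      calc d' * d * d' = e * (e * d' * d * (d' * e)) * e := by
            simp only [mul_assoc, mul_self_cancel hg.1 he, ThreeTrans.mul_self hg.1 he, mul_one]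
        _ = _ := by rw [h]
    by_cases hce : Commute e d
    · rw [conj_conj_of_commute hg.1 he hce] at h1
      exact hdd (commute_of_conj_eq hg.1 hd' h1).symm
    · rw [braid hg.1 hd' hd (fun h => hdd h.symm), braid hg.1 he hd hce] at h1
      exact hed' (mul_left_cancel (mul_right_cancel h1)).symm
  have hne : ∃ b ∈ adj D d, b ∈ O := by
    by_cases hcf : Commute d f
    · exact ⟨f, ⟨hOD hfO, hfd, hcf⟩, hfO⟩
    by_contra hne
    have hsub : adj D d ⊆ adj D f := by
      intro b hb
      have hce : Commute f b := by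
        by_contra h
        exact hne ⟨b, hb, hline f hfO b hb.1 (hA hb) h⟩
      exact ⟨hb.1, fun h => hne ⟨b, hb, h ▸ hfO⟩, hce⟩
    exact hfd (adj_inj hD h2 hc.2 hd (hOD hfO)
      (Set.eq_of_subset_of_ncard_le hsub (by rw [ncard_adj_eq hD hd (hOD hfO)]))).symm
  have hAO : adj D d ⊆ O := by
    obtain ⟨b, hb, hbO⟩ := hne
    intro b' hb'
    obtain ⟨g, hgm, hge⟩ := loc_transitive hD h2 hc hd hb hb'
    have hgH : g ∈ H := (Subgroup.closure_le H).2 hA hgm
    obtain ⟨h, hh, rfl⟩ := hbO
    exact ⟨g * h, H.mul_mem hgH hh, by rw [← hge]; group⟩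
  intro x hx
  show x ∈ O
  induction hx with
  | refl => exact hdO
  | @tail u v _ huv ih =>
    obtain ⟨h, hh, rfl⟩ := ih
    rcases eq_or_ne v (h * d * h⁻¹) with rfl | hne
    · exact ⟨h, hh, rfl⟩
    have hm := (conj_adj hg.2.1 h d v).1 ⟨huv.2.1, hne, huv.2.2⟩
    obtain ⟨k, hk, hke⟩ := hAO hm
    refine ⟨h * k, H.mul_mem hh hk, ?_⟩
    calc h * k * d * (h * k)⁻¹ = h * (k * d * k⁻¹) * h⁻¹ := by group
      _ = v := by rw [hke]; group

/-- The product of two commuting members keeps every member in its graph component. -/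
theorem reach_mul_conj (hD : IsThreeTranspositionClass D) {x y : G} (hx : x ∈ D) (hy : y ∈ D)
    (hc : Commute x y) {z : G} (hz : z ∈ D) : Reach D z (x * y * z * (x * y)⁻¹) := by
  have hg := group_of_class hD
  have e : x * y * z * (x * y)⁻¹ = x * (y * z * y) * x := by
    rw [mul_inv_rev, inv_eq hg.1 hx, inv_eq hg.1 hy]; simp only [mul_assoc]
  rw [e]
  have m1 := conj_mem hg.1 hg.2.1 hy hz
  have m2 := conj_mem hg.1 hg.2.1 hx m1
  by_cases h1 : Commute y z
  · rw [conj_conj_of_commute hg.1 hy h1]
    have m3 := conj_mem hg.1 hg.2.1 hx hz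
    by_cases h3 : Commute x z
    · rw [conj_conj_of_commute hg.1 hx h3]; exact ReflTransGen.refl
    · refine ReflTransGen.trans (ReflTransGen.single ⟨hz, hy, h1.symm⟩)
        (ReflTransGen.single ⟨hy, m3, ?_⟩)
      have h4 := h1.map (MulAut.conj x).toMonoidHom
      simpa [inv_eq hg.1 hx, conj_conj_of_commute hg.1 hx hc] using h4
  by_cases h3 : Commute x z
  · refine ReflTransGen.trans (ReflTransGen.single ⟨hz, hx, h3.symm⟩)
      (ReflTransGen.single ⟨hx, m2, ?_⟩)
    have h4 := (h3.map (MulAut.conj y).toMonoidHom).map (MulAut.conj x).toMonoidHom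
    simpa [inv_eq hg.1 hx, inv_eq hg.1 hy, conj_conj_of_commute hg.1 hy hc.symm,
      ThreeTrans.mul_self hg.1 hx] using h4
  obtain ⟨φ, k0, k1, k2⟩ := exists_hom_four hg.1 hx hz hy hc h3 fun h => h1 h.symm
  refine ReflTransGen.single ⟨hz, m2, ?_⟩
  rw [← k0, ← k1, ← k2, ← map_mul, ← map_mul, ← map_mul, ← map_mul]
  exact (show Commute (Equiv.swap (1 : Fin 4) 2) (Equiv.swap 0 1 *
    (Equiv.swap 2 3 * Equiv.swap 1 2 * Equiv.swap 2 3) * Equiv.swap 0 1) by
      rw [commute_iff_eq]; decide +kernel).map φ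

/-- The members joined to `d` generate a group containing the component. -/
theorem component_le_closure (hD : IsThreeTranspositionClass D) (h2 : ∃ a ∈ D, ∃ b ∈ D, a ≠ b)
    (hrad : TrivialRadical G) {L : Subgroup G} (hL : IsComponent L) [hLn : L.Normal] {d : G}
    (hd : d ∈ D) : L ≤ Subgroup.closure {x | Reach D d x} := by
  have hg := group_of_class hD
  -- the elements keeping every member in its graph component
  let N : Subgroup G :=
    { carrier := {g | ∀ x ∈ D, Reach D x (g * x * g⁻¹)}
      one_mem' := fun x _ => by simpa using Reach.refl (D := D) x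
      mul_mem' := fun {g h} hgm hhm x hx => by
        have := Reach.trans (hhm x hx) (hgm _ (hg.2.1 h x hx))
        simpa [mul_assoc] using this
      inv_mem' := fun {g} hgm x hx => by
        have := Reach.symm (hgm _ (hg.2.1 g⁻¹ x hx))
        simpa [mul_assoc] using this }
  have hNn : N.Normal := ⟨fun n hn g x hx => by
    have := Reach.conj hg.2.1 g (hn _ (hg.2.1 g⁻¹ x hx))
    simpa [mul_assoc] using this⟩
  obtain ⟨b, hb⟩ := adj_nonempty hD h2 hrad hd
  have hLN : L ≤ N := component_le_of_normal hD hrad hL fun h => by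
    have hm : d * b ∈ N := fun z hz => reach_mul_conj hD hd hb.1 hb.2.2 hz
    rw [h, Subgroup.mem_bot, mul_eq_one_iff_eq_inv, inv_eq hg.1 hb.1] at hm
    exact hb.2.1 hm.symm
  set R := Subgroup.closure {x | Reach D d x} with hR
  have hnorm : ∀ l ∈ L, ∀ x ∈ R, l * x * l⁻¹ ∈ R := by
    intro l hl x hx
    induction hx using Subgroup.closure_induction with
    | mem z hz =>
      exact Subgroup.subset_closure (ReflTransGen.trans hz (hLN hl z (Reach.mem hd hz)))
    | one => simp
    | mul u v _ _ hu hv => have := mul_mem hu hv; simpa [mul_assoc] using this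
    | inv u _ hu => have := inv_mem hu; simpa [mul_assoc] using this
  have hXn : ((R ⊓ L).subgroupOf L).Normal := ⟨fun n hn l => by
    rw [Subgroup.mem_subgroupOf] at hn ⊢
    exact ⟨hnorm l l.2 n hn.1, L.mul_mem (L.mul_mem l.2 n.2) (L.inv_mem l.2)⟩⟩
  have hsub : (R ⊓ L).IsSubnormal :=
    (Subgroup.IsSubnormal.step (R ⊓ L) L inf_le_right hLn.isSubnormal hXn)
  rcases IsComponent.le_or_commutes hL hsub with h | h
  · exact h.trans inf_le_left
  exfalso
  have hbot : R ⊓ L ≤ ⊥ :=
    (Subgroup.le_centralizer_iff.1 (Subgroup.commutator_eq_bot_iff_le_centralizer.1 h)).trans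
      ((centralizer_component_le_center hD (centralCores_of_trivialRadical hrad) hL).trans
        (center_eq_bot_of_trivialRadical hrad).le)
  obtain ⟨l, hl, hne⟩ := exists_not_centralized hD (component_not_central hL) hd
  have hdR : d ∈ R := Subgroup.subset_closure (show Reach D d d from ReflTransGen.refl)
  have hm : l * d * l⁻¹ * d⁻¹ ∈ R ⊓ L := by
    refine ⟨R.mul_mem (hnorm l hl d hdR) (R.inv_mem hdR), ?_⟩
    have := L.mul_mem hl (hLn.conj_mem l⁻¹ (L.inv_mem hl) d)
    simpa [mul_assoc] using this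
  have h1 := hbot hm
  rw [Subgroup.mem_bot, mul_inv_eq_one, mul_inv_eq_iff_eq_mul] at h1
  exact hne h1.symm

/-- An element centralising all members joined to `d` is trivial. -/
theorem eq_one_of_centralizes (hD : IsThreeTranspositionClass D) (h2 : ∃ a ∈ D, ∃ b ∈ D, a ≠ b)
    (hrad : TrivialRadical G) {d g : G} (hd : d ∈ D) (h : ∀ x, Reach D d x → Commute g x) :
    g = 1 := by
  obtain ⟨L, hL, hLn⟩ := exists_layer_component hD h2 hrad
  have hle : L ≤ Subgroup.centralizer {g} := (component_le_closure hD h2 hrad hL hd).trans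
    ((Subgroup.closure_le _).2 fun x hx => Subgroup.mem_centralizer_singleton_iff.2 (h x hx).symm.eq)
  have hg : g ∈ Subgroup.centralizer (L : Set G) := Subgroup.mem_centralizer_iff.2 fun l hl =>
    Subgroup.mem_centralizer_singleton_iff.1 (hle hl)
  have := (center_eq_bot_of_trivialRadical hrad).le
    (centralizer_component_le_center hD (centralCores_of_trivialRadical hrad) hL hg)
  simpa using this

end Cfsg.Agent.ThreeTransUnique
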