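/-
Two classes of 3-transpositions generating the same group have the same image in a quotient with
trivial radical, provided a normal elementary abelian 2-subgroup is moved by their members.

Main results:
* `Setting.exists_eq` : every member of the second class is congruent to a member of the first one
-/
import Cfsg.Agent.Lib.ThreeTransUnique.Module
import Cfsg.Agent.Lib.ThreeTransUnique.Local

namespace Cfsg.Agent.ThreeTransUnique

open Cfsg Cfsg.Agent.ThreeTrans Cfsg.Agent.ThreeTransRank

variable {G : Type*} [Group G] {H : Type*} [Group H] {D E : Set G} {A : Subgroup G} {π : G →* H}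

/-- Two classes, a module and a quotient with trivial radical. -/
structure Setting (π : G →* H) (D E : Set G) (A : Subgroup G) : Prop where
  classD : IsThreeTranspositionClass D
  classE : IsThreeTranspositionClass E
  elem : Elem2 A
  surj : Function.Surjective π
  rad : TrivialRadical H
  core : pCore 2 G ≤ π.ker
  neD : ∀ d ∈ D, π d ≠ 1
  neE : ∀ e ∈ E, π e ≠ 1
  moveD : ∀ d ∈ D, ∃ r ∈ A, ¬ Commute d r

/-- Members with different images have no common commutator. -/
theorem isW_eq_one [Finite G] (hD : IsThreeTranspositionClass D) (hA : Elem2 A)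
    (hcore : pCore 2 G ≤ π.ker) {d e w : G} (hd : d ∈ D) (he : e ∈ D) (hne : π d ≠ π e)
    (hw : IsW A d w) (hw' : IsW A e w) : w = 1 := by
  have hg := group_of_class hD
  refine IsW.eq_one_of_not_vRel hg hA hd he (fun hv => hne ?_) hw hw'
  have h := hcore (mul_mem_pCore_two_of_vRel hg.1 hg.2.1 hd he hv)
  rw [MonoidHom.mem_ker, map_mul, mul_eq_one_iff_eq_inv, ← map_inv, ThreeTrans.inv_eq hg.1 he] at h
  exact h

/-- `a` and `y` have a common commutator. -/
structure Att (A : Subgroup G) (D : Set G) (a y : G) : Prop where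
  mem : y ∈ D
  comm : Commute y a
  vec : ∃ u, IsW A y u ∧ IsW A a u ∧ u ≠ 1

namespace Setting

variable [Finite G] [Finite H] (S : Setting π D E A)
include S

omit [Finite G] [Finite H] in
theorem imageD : IsThreeTranspositionClass (π '' D) := image_class π S.surj S.classD S.neD

theorem two_images : ∃ a ∈ π '' D, ∃ b ∈ π '' D, a ≠ b := by
  obtain ⟨d, hd, -⟩ := id S.classD.2.1
  by_contra hcon
  have hall : ∀ b ∈ π '' D, b = π d := fun b hb =>
    by_contra fun h => hcon ⟨b, hb, π d, ⟨d, hd, rfl⟩, h⟩
  have hc : π d ∈ Subgroup.center H :=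
    commute_all_of_gen S.imageD.2.2 fun b hb => by rw [hall b hb]
  rw [center_eq_bot_of_trivialRadical S.rad, Subgroup.mem_bot] at hc
  exact S.neD d hd hc

omit [Finite H] in
/-- A member is not moved to a commuting member with another image. -/
theorem image_eq_of_commute {a d : G} (ha : a ∈ E) (hd : d ∈ D)
    (hc : Commute (π d) (π (a * d * a))) : π (a * d * a) = π d := by
  by_contra hne
  have hgD := group_of_class S.classD
  have hgE := group_of_class S.classE
  have haa := ThreeTrans.mul_self hgE.1 ha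
  have hdd := ThreeTrans.mul_self hgD.1 hd
  have hd' : a * d * a ∈ D := by
    have := hgD.2.1 a d hd
    rwa [ThreeTrans.inv_eq hgE.1 ha] at this
  have hcomm : Commute d (a * d * a) := commute_of_image π hgD.1 hd hd' hc (Ne.symm hne)
  obtain ⟨w, hw, hw1⟩ := exists_isW_ne_one S.elem hdd (S.moveD d hd)
  have hwA := hw.mem S.elem hdd
  have hw' := hw.conj_inv S.elem haa
  have hu : IsW A a (w * (a * w * a)) := ⟨w, hwA, rfl⟩
  have hu1 : w * (a * w * a) ≠ 1 := by
    intro h
    have e : a * w * a = w := by rw [eq_inv_of_mul_eq_one_right h, S.elem.inv_eq hwA]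
    rw [e] at hw'
    exact hw1 (isW_eq_one S.classD S.elem S.core hd hd' (Ne.symm hne) hw hw')
  have hfix : Commute d (w * (a * w * a)) :=
    (hw.commute_self S.elem hdd).mul_right (hw'.commute_of_commute hgD S.elem hd' hd hcomm.symm)
  have hu' := hu.conj_inv S.elem hdd
  rw [hfix.eq, mul_assoc _ d d, hdd, mul_one] at hu'
  have ha' : d * a * d ∈ E := by
    have := hgE.2.1 d a ha
    rwa [ThreeTrans.inv_eq hgD.1 hd] at this
  apply hu1
  refine isW_eq_one S.classE S.elem S.core ha ha' (fun h => hne ?_) hu hu'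
  have e1 : π d * π a * π d = π a := by rw [← map_mul, ← map_mul, h]
  have e2 : Commute (π d) (π a) := by
    show π d * π a = π a * π d
    calc π d * π a = π d * π a * (π d * π d) := by rw [← map_mul π d d, hdd, map_one, mul_one]
      _ = (π d * π a * π d) * π d := by simp only [mul_assoc]
      _ = _ := by rw [e1]
  rw [map_mul, map_mul, ← e2.eq, mul_assoc, ← map_mul π a a, haa, map_one, mul_one]

omit [Finite H] in
/-- A member moved to a non-commuting one gives a member with a common commutator. -/
theorem att_of_not_commute {a d : G} (ha : a ∈ E) (hd : d ∈ D)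
    (hc : ¬ Commute (π d) (π (a * d * a))) : Att A D a (d * (a * d * a) * d) := by
  have hgD := group_of_class S.classD
  have hgE := group_of_class S.classE
  have haa := ThreeTrans.mul_self hgE.1 ha
  have hdd := ThreeTrans.mul_self hgD.1 hd
  set d' := a * d * a with hd'def
  have hd' : d' ∈ D := by
    have := hgD.2.1 a d hd
    rwa [ThreeTrans.inv_eq hgE.1 ha] at this
  have hd'd' := ThreeTrans.mul_self hgD.1 hd'
  have hn : ¬ Commute d d' := fun h => hc (h.map π)
  have hy : d * d' * d ∈ D := ThreeTrans.conj_mem hgD.1 hgD.2.1 hd hd'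
  have hyy := ThreeTrans.mul_self hgD.1 hy
  have hb := braid hgD.1 hd hd' hn
  have hd2 : a * d' * a = d := by
    rw [hd'def]
    simp only [mul_assoc, haa, mul_one]
    rw [← mul_assoc, haa, one_mul]
  have hay : a * (d * d' * d) * a = d * d' * d := by
    calc a * (d * d' * d) * a = (a * d * a) * (a * d' * a) * (a * d * a) := by
          simp only [mul_assoc]
          simp only [← mul_assoc a a, haa, one_mul]
      _ = _ := by rw [← hd'def, hd2, ← hb]
  have hyd : d' * (d * d' * d) * d' = d := by
    rw [hb]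
    simp only [mul_assoc, hd'd', mul_one]
    rw [← mul_assoc, hd'd', one_mul]
  obtain ⟨z0, hz0, hz01⟩ := exists_isW_ne_one S.elem hyy (S.moveD _ hy)
  have hz0' : IsW A (d * d' * d) (a * z0 * a) := by
    have h := hz0.conj_inv S.elem haa
    rwa [hay] at h
  obtain ⟨z, hz, hz1, hza⟩ : ∃ z, IsW A (d * d' * d) z ∧ z ≠ 1 ∧ a * z * a = z := by
    by_cases h : z0 * (a * z0 * a) = 1
    · refine ⟨z0, hz0, hz01, ?_⟩
      rw [eq_inv_of_mul_eq_one_right h, S.elem.inv_eq (hz0.mem S.elem hyy)]
    · refine ⟨_, hz0.mul S.elem hyy hz0', h, ?_⟩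
      have e := (S.elem.comm z0 (hz0.mem S.elem hyy) _ (hz0'.mem S.elem hyy)).eq
      calc a * (z0 * (a * z0 * a)) * a = (a * z0 * a) * (z0 * (a * a)) := by simp only [mul_assoc]
        _ = _ := by rw [haa, mul_one, e]
  have hw : IsW A d (d' * z * d') := by
    have h := hz.conj_inv S.elem hd'd'
    rwa [hyd] at h
  set w := d' * z * d' with hwdef
  have hwA := hw.mem S.elem hdd
  have hzA := hz.mem S.elem hyy
  have hz' : d' * w * d' = z := by
    rw [hwdef]
    simp only [mul_assoc, hd'd', mul_one]
    rw [← mul_assoc, hd'd', one_mul]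
  have hw' : IsW A d' (w * z) := ⟨w, hwA, by rw [hz']⟩
  have hP : IsW A d' (a * w * a) := hw.conj_inv S.elem haa
  have hQ : IsW A d (a * (w * z) * a) := by
    have h := hw'.conj_inv S.elem haa
    rwa [hd2] at h
  have e1 : a * (w * z) * a = (a * w * a) * z := by
    calc a * (w * z) * a = (a * w * a) * (a * z * a) := by
          simp only [mul_assoc]; simp only [← mul_assoc a a, haa, one_mul]
      _ = _ := by rw [hza]
  rw [e1] at hQ
  have hPA := hP.mem S.elem hd'd'
  have hX : w * ((a * w * a) * z) = (a * w * a) * (w * z) := by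
    rw [← mul_assoc, (S.elem.comm w hwA _ hPA).eq, mul_assoc]
  have hX1 : (a * w * a) * (w * z) = 1 :=
    isW_eq_one S.classD S.elem S.core hd hd' (fun h => hc (h ▸ Commute.refl _))
      (hX ▸ hw.mul S.elem hdd hQ) (hP.mul S.elem hd'd' hw')
  have hzeq : w * (a * w * a) = z := by
    have h3 : a * w * a = w * z := by
      rw [eq_inv_of_mul_eq_one_left hX1, S.elem.inv_eq (mul_mem hwA hzA)]
    rw [h3, ← mul_assoc, S.elem.sq w hwA, one_mul]
  refine ⟨hy, ?_, z, hz, ⟨w, hwA, hzeq.symm⟩, hz1⟩
  show d * d' * d * a = a * (d * d' * d)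
  conv_lhs => rw [← hay]
  simp only [mul_assoc, haa, mul_one]

omit [Finite H] in
/-- Neighbours of a member with a common commutator commute with `a`. -/
theorem commute_of_att {a y x : G} (ha : a ∈ E) (h : Att A D a y) (hx : x ∈ D)
    (hc : Commute (π x) (π y)) : Commute (π x) (π a) := by
  rcases eq_or_ne (π x) (π y) with e | hne
  · rw [e]; exact h.comm.map π
  have hgD := group_of_class S.classD
  have hgE := group_of_class S.classE
  have hxx := ThreeTrans.mul_self hgD.1 hx
  obtain ⟨hy, -, u, huy, hua, hu1⟩ := h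
  have hxy := commute_of_image π hgD.1 hx hy hc hne
  have hxu := huy.commute_of_commute hgD S.elem hy hx hxy.symm
  have hu' := hua.conj_inv S.elem hxx
  rw [hxu.eq, mul_assoc _ x x, hxx, mul_one] at hu'
  have ha' : x * a * x ∈ E := by
    have := hgE.2.1 x a ha
    rwa [ThreeTrans.inv_eq hgD.1 hx] at this
  by_contra hn
  apply hu1
  refine isW_eq_one S.classE S.elem S.core ha ha' (fun he => hn ?_) hua hu'
  have e1 : π x * π a * π x = π a := by rw [← map_mul, ← map_mul, he]
  show π x * π a = π a * π x
  calc π x * π a = π x * π a * (π x * π x) := by rw [← map_mul π x x, hxx, map_one, mul_one]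
    _ = (π x * π a * π x) * π x := by simp only [mul_assoc]
    _ = _ := by rw [e1]

/-- A member with a common commutator commutes with the same images as `a`. -/
theorem commute_iff_of_att {a y x : G} (ha : a ∈ E) (h : Att A D a y) (hx : x ∈ D) :
    Commute (π x) (π y) ↔ Commute (π x) (π a) := by
  refine ⟨S.commute_of_att ha h hx, fun hxa => ?_⟩
  by_contra hn
  have hI := S.imageD
  have hgI := group_of_class hI
  have hy := h.mem
  set C := Subgroup.centralizer ({π a} : Set H) with hC
  have hmem : ∀ q : H, Commute q (π a) → q ∈ C := fun q hq =>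
    Subgroup.mem_centralizer_singleton_iff.2 hq.eq
  have hpy : π y ∈ C := hmem _ (h.comm.map π)
  have hpx : π x ∈ C := hmem _ hxa
  have hAy : adj (π '' D) (π y) ⊆ (C : Set H) := by
    rintro _ ⟨⟨z, hz, rfl⟩, -, hc⟩
    exact hmem _ (S.commute_of_att ha h hz hc.symm)
  have hx' : π x * π y * π x ∈ π '' D :=
    ThreeTrans.conj_mem hI.1 hgI.2.1 ⟨x, hx, rfl⟩ ⟨y, hy, rfl⟩
  have hxi : (π x)⁻¹ = π x := ThreeTrans.inv_eq hI.1 ⟨x, hx, rfl⟩
  have hAx : adj (π '' D) (π x * π y * π x) ⊆ (C : Set H) := by
    intro q hq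
    have e : π x * π y * π x = π x * π y * (π x)⁻¹ := by rw [hxi]
    rw [e, conj_adj hgI.2.1] at hq
    have h1 := C.mul_mem (C.mul_mem hpx (hAy hq)) (C.inv_mem hpx)
    simpa [mul_assoc] using h1
  have hnc : ¬ Commute (π y) (π x * π y * π x) := by
    intro hc
    rw [braid hI.1 ⟨x, hx, rfl⟩ ⟨y, hy, rfl⟩ hn] at hc
    apply hn
    have hyi : (π y)⁻¹ = π y := ThreeTrans.inv_eq hI.1 ⟨y, hy, rfl⟩
    have hyy : π y * π y = 1 := ThreeTrans.mul_self hI.1 ⟨y, hy, rfl⟩
    have h4 := hc.map (MulAut.conj (π y)).toMonoidHom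
    have h5 : Commute (π y) (π x) := by
      simpa [hyi, mul_assoc, hyy, mul_self_cancel hI.1 (⟨y, hy, rfl⟩ : π y ∈ π '' D)] using h4
    exact h5.symm
  have horb := orbit_of_neighbourhoods hI S.two_images S.rad ⟨y, hy, rfl⟩ hx' hpy
    (C.mul_mem (C.mul_mem hpx hpy) hpx) hAy hAx hnc
  refine S.neE a ha (eq_one_of_centralizes hI S.two_images S.rad ⟨y, hy, rfl⟩ fun q hq => ?_)
  obtain ⟨g, hg, rfl⟩ := horb q hq
  have : g * π y * g⁻¹ ∈ C := C.mul_mem (C.mul_mem hg hpy) (C.inv_mem hg)
  exact (Subgroup.mem_centralizer_singleton_iff.1 this).symm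

/-- Every member of the second class is congruent to a member of the first one. -/
theorem exists_eq {a : G} (ha : a ∈ E) : ∃ d ∈ D, π d = π a := by
  have hgD := group_of_class S.classD
  have hgE := group_of_class S.classE
  have hI := S.imageD
  have haa := ThreeTrans.mul_self hgE.1 ha
  have hmem' : ∀ x ∈ D, a * x * a ∈ D := fun x hx => by
    have := hgD.2.1 a x hx
    rwa [ThreeTrans.inv_eq hgE.1 ha] at this
  have hmove : ∀ x ∈ D, ¬ Commute (π x) (π a) → ¬ Commute (π x) (π (a * x * a)) := by
    intro x hx hn hc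
    have e := S.image_eq_of_commute ha hx hc
    apply hn
    show π x * π a = π a * π x
    calc π x * π a = π (a * x * a) * π a := by rw [e]
      _ = π a * π x := by rw [← map_mul, mul_assoc, haa, mul_one, map_mul]
  obtain ⟨x0, hx0, hn0⟩ : ∃ x ∈ D, ¬ Commute (π x) (π a) := by
    by_contra hcon
    refine S.neE a ha ?_
    have hc : π a ∈ Subgroup.center H := commute_all_of_gen hI.2.2 (by
      rintro _ ⟨x, hx, rfl⟩
      exact by_contra fun h => hcon ⟨x, hx, h⟩)
    rwa [center_eq_bot_of_trivialRadical S.rad, Subgroup.mem_bot] at hc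
  set y := x0 * (a * x0 * a) * x0
  have hy : Att A D a y := S.att_of_not_commute ha hx0 (hmove x0 hx0 hn0)
  have hpy : π y ∈ π '' D := ⟨y, hy.mem, rfl⟩
  have huniq : ∀ y', Att A D a y' → π y' = π y := by
    intro y' hy'
    refine vRel_eq hI S.two_images (centralCores_of_trivialRadical S.rad).1 ⟨y', hy'.mem, rfl⟩ hpy ?_
    rintro _ ⟨x, hx, rfl⟩
    rw [Commute.symm_iff, Commute.symm_iff (a := π y'), S.commute_iff_of_att ha hy hx,
      S.commute_iff_of_att ha hy' hx]
  refine ⟨y, hy.mem, ?_⟩
  have hkey : ∀ x ∈ D, π y * π x * π y = π a * π x * π a := by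
    intro x hx
    have hyy : π y * π y = 1 := ThreeTrans.mul_self hI.1 hpy
    have haa' : π a * π a = 1 := by rw [← map_mul, haa, map_one]
    by_cases hxa : Commute (π x) (π a)
    · rw [← ((S.commute_iff_of_att ha hy hx).2 hxa).eq, ← hxa.eq, mul_assoc, hyy, mul_assoc, haa']
    · have hnxy : ¬ Commute (π x) (π y) := fun h => hxa ((S.commute_iff_of_att ha hy hx).1 h)
      have e := huniq _ (S.att_of_not_commute ha hx (hmove x hx hxa))
      have e2 : π a * π x * π a = π x * π y * π x := by
        rw [← e, ← map_mul, ← map_mul, ← map_mul, ← map_mul]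
        congr 1
        have hxx := ThreeTrans.mul_self hgD.1 hx
        simp only [mul_assoc, hxx, mul_one]
        rw [← mul_assoc x x, hxx, one_mul]
      rw [e2, braid hI.1 ⟨x, hx, rfl⟩ hpy hnxy]
  have hc : π y * π a ∈ Subgroup.center H := commute_all_of_gen hI.2.2 (by
    rintro _ ⟨x, hx, rfl⟩
    have h := hkey x hx
    have hyy : π y * π y = 1 := ThreeTrans.mul_self hI.1 hpy
    have haa' : π a * π a = 1 := by rw [← map_mul, haa, map_one]
    show π x * (π y * π a) = π y * π a * π x
    calc π x * (π y * π a) = π y * (π y * π x * π y) * π a := by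
          simp only [← mul_assoc, hyy, one_mul]
      _ = π y * (π a * π x * π a) * π a := by rw [h]
      _ = _ := by simp only [mul_assoc, haa', mul_one])
  rw [center_eq_bot_of_trivialRadical S.rad, Subgroup.mem_bot] at hc
  rw [eq_inv_of_mul_eq_one_left hc, ← map_inv, ThreeTrans.inv_eq hgE.1 ha]

end Setting

end Cfsg.Agent.ThreeTransUnique
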