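/-
The descent step for a minimal normal elementary abelian 2-subgroup.

Main results:
* `Two.centralizer_commute` : the centraliser of `R` centralises `α`
* `Two.twist` : the step
-/
import Cfsg.Agent.Lib.ThreeTransUnique.Core
import Cfsg.Agent.Lib.ThreeTransUnique.Local
import Cfsg.Agent.Lib.Solvable.Basic

namespace Cfsg.Agent.ThreeTransUnique

open Cfsg Cfsg.Agent.ThreeTrans Cfsg.Agent.ThreeTransRank Cfsg.Agent.Components

variable {G : Type*} [Group G] {D E : Set G} {R : Subgroup G} {d α : G}

namespace Two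

variable [Finite G] (S : Two D E R d α)
include S

theorem centralizer_commute {k : G} (hk : k ∈ Subgroup.centralizer (R : Set G)) :
    Commute k α := by
  have := S.normal
  have hD := S.classD.1
  have hg := group_of_class S.classD
  have hA := S.elemA
  set t := k * α * k⁻¹ with ht
  have h1 : α * t = 1 := by
    refine S.eq_one_of_central (S.conj_mul_mem k S.alpha_mem) fun e he => ?_
    have hee := mul_self hD he
    set s := α * (e * α * e) with hs
    have hsR : s ∈ R := by
      have := S.conj_mul_mem e S.alpha_mem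
      rwa [inv_eq hD he] at this
    have hse : e * α * e = α * s := by rw [hs, ← mul_assoc α α, S.alpha_sq, one_mul]
    have hes : Commute e s := IsW.commute_self (A := S.A) hA hee ⟨α, S.alpha_mem, rfl⟩
    have hks : Commute k s := (Subgroup.mem_centralizer_iff.1 hk s hsR).symm
    -- `e k e` and `k` agree on `α`
    have he' : k⁻¹ * e * k ∈ D := by
      have := hg.2.1 k⁻¹ e he
      rwa [inv_inv] at this
    have hv : VRel D (k⁻¹ * e * k) e := S.vRel_of_act he' he fun r hr => by
      have hm : e * r * e ∈ R := by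
        have := S.normal.conj_mem r hr e
        rwa [inv_eq hD he] at this
      have c1 : Commute k r := (Subgroup.mem_centralizer_iff.1 hk r hr).symm
      have c2 : Commute k (e * r * e) := (Subgroup.mem_centralizer_iff.1 hk _ hm).symm
      calc k⁻¹ * e * k * r * (k⁻¹ * e * k) = k⁻¹ * e * (k * r * k⁻¹) * e * k := by group
        _ = k⁻¹ * ((e * r * e) * k) := by rw [c1.eq, mul_inv_cancel_right]; simp only [mul_assoc]
        _ = _ := by rw [← c2.eq, inv_mul_cancel_left]
    have hq := mul_mem_pCore_two_of_vRel hD hg.2.1 he' he hv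
    have hqe : e * k * e = k * (k⁻¹ * e * k * e) := by group
    have h2 : e * k * e * α * (e * k * e)⁻¹ = t := by
      rw [hqe, ht]
      calc k * (k⁻¹ * e * k * e) * α * (k * (k⁻¹ * e * k * e))⁻¹
          = k * ((k⁻¹ * e * k * e) * α * (k⁻¹ * e * k * e)⁻¹) * k⁻¹ := by group
        _ = _ := by rw [(S.core_commute hq).eq, mul_inv_cancel_right]
    have h3 : e * k * e * α * (e * k * e)⁻¹ = (e * t * e) * s := by
      calc e * k * e * α * (e * k * e)⁻¹ = e * (k * (e * α * e) * k⁻¹) * e := by
            simp only [mul_inv_rev, inv_eq hD he, mul_assoc]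
        _ = e * (t * (k * s * k⁻¹)) * e := by rw [hse, ht]; group
        _ = e * t * s * e := by rw [hks.eq, mul_inv_cancel_right]; simp only [mul_assoc]
        _ = _ := by rw [mul_assoc (e * t), ← hes.eq]; simp only [mul_assoc]
    have h4 : e * t * e = t * s := by
      have h34 : (e * t * e) * s = t := h3.symm.trans h2
      calc e * t * e = (e * t * e) * s * s := by rw [mul_assoc _ s s, hA.sq s (S.le_A hsR), mul_one]
        _ = _ := by rw [h34]
    have h5 : e * (α * t) * e = α * t := by
      calc e * (α * t) * e = (e * α * e) * (e * t * e) := by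
            simp only [mul_assoc, mul_self_cancel hD he]
        _ = (α * s) * (t * s) := by rw [hse, h4]
        _ = α * (s * t) * s := by simp only [mul_assoc]
        _ = α * (t * s) * s := by
            rw [(hA.comm s (S.le_A hsR) t (hA.conj_mem k S.alpha_mem)).eq]
        _ = _ := by simp only [mul_assoc, hA.sq s (S.le_A hsR), mul_one]
    exact commute_of_conj_eq hD he h5
  rw [ht] at h1
  exact mul_inv_eq_iff_eq_mul.1 ((eq_inv_of_mul_eq_one_right h1).trans S.alpha_inv)

theorem centralizer_commute_A {k v : G} (hk : k ∈ Subgroup.centralizer (R : Set G))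
    (hv : v ∈ S.A) : Commute k v := by
  obtain ⟨s, hs, rfl | rfl⟩ := S.exists_eq hv
  · exact (Subgroup.mem_centralizer_iff.1 hk _ hs).symm
  · exact (S.centralizer_commute hk).mul_right (Subgroup.mem_centralizer_iff.1 hk _ hs).symm

theorem core_le : pCore 2 G ≤ Subgroup.centralizer (R : Set G) := fun _ hq =>
  Subgroup.mem_centralizer_iff.2 fun _ hr => (S.core_fix hq hr).symm.eq

/-- Congruent members act in the same way, so their partners differ by a commutator. -/
theorem isW_partner [R.Normal] {h h' β β' : G} (hh : h ∈ D) (hh' : h' ∈ D)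
    (he : QuotientGroup.mk' (Subgroup.centralizer (R : Set G)) h =
      QuotientGroup.mk' (Subgroup.centralizer (R : Set G)) h')
    (hβ : β ∈ S.A) (hβ' : β' ∈ S.A) (hβE : h * β ∈ E) (hβE' : h' * β' ∈ E) (hc : Commute h β)
    (hc' : Commute h' β') : IsW S.A h (β * β') := by
  have hD := S.classD.1
  have hg := group_of_class S.classD
  have hA := S.elemA
  set K := Subgroup.centralizer (R : Set G)
  set π := QuotientGroup.mk' K
  obtain ⟨x, hx, hnx⟩ : ∃ x ∈ D, ¬ Commute x h := by
    by_contra hcon
    obtain ⟨r, hr, hne⟩ := S.moveR hh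
    exact hne (Subgroup.mem_center_iff.1 (commute_all_of_gen S.classD.2.2
      fun x hx => by_contra fun hn => hcon ⟨x, hx, hn⟩) r).symm
  have hn' : ¬ Commute h' x := by
    intro hcx
    by_cases e : π x = π h
    · refine hnx ?_
      refine (S.vRel_of_act hx hh fun r hr => ?_) x hx |>.2 (Commute.refl x) |>.symm
      have hk : x⁻¹ * h ∈ K := QuotientGroup.eq.1 e
      have c1 : Commute (x⁻¹ * h) r := (Subgroup.mem_centralizer_iff.1 hk r hr).symm
      calc x * r * x = x * r * x⁻¹ := by rw [inv_eq hD hx]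
        _ = x * ((x⁻¹ * h) * r * (x⁻¹ * h)⁻¹) * x⁻¹ := by rw [c1.eq, mul_inv_cancel_right]
        _ = h * r * h⁻¹ := by group
        _ = _ := by rw [inv_eq hD hh]
    · exact hnx (commute_of_image π hD hx hh (he ▸ (hcx.symm.map π)) e)
  obtain ⟨γ, hγE, hγ, -, -⟩ := S.partnerA hx
  have h1 := S.S3_partner hh hx (fun hc => hnx hc.symm) hβ hγ hβE hγE hc
  have h2 := S.S3_partner hh' hx hn' hβ' hγ hβE' hγE hc'
  have hk : h'⁻¹ * h ∈ K := QuotientGroup.eq.1 he.symm
  have hk' : h' * h ∈ K := by rwa [inv_eq hD hh'] at hk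
  have hS : ∀ v ∈ S.A, S3 (h * x) v = S3 (h' * x) v := by
    intro v hv
    have e : h * x = h' * (h' * h) * x := by rw [mul_self_cancel hD hh']
    have m1 : x * v * x⁻¹ ∈ S.A := hA.conj_mem x hv
    have m2 : h'⁻¹ * v * h' ∈ S.A := by simpa using hA.conj_mem h'⁻¹ hv
    have c1 := S.centralizer_commute_A hk' m1
    have c2 := S.centralizer_commute_A hk' m2
    have a1 : h * x * v * (h * x)⁻¹ = h' * x * v * (h' * x)⁻¹ := by
      rw [e]
      calc h' * (h' * h) * x * v * (h' * (h' * h) * x)⁻¹
          = h' * ((h' * h) * (x * v * x⁻¹) * (h' * h)⁻¹) * h'⁻¹ := by group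
        _ = h' * (x * v * x⁻¹) * h'⁻¹ := by rw [c1.eq, mul_inv_cancel_right]
        _ = _ := by group
    have a2 : (h * x)⁻¹ * v * (h * x) = (h' * x)⁻¹ * v * (h' * x) := by
      rw [e]
      calc (h' * (h' * h) * x)⁻¹ * v * (h' * (h' * h) * x)
          = x⁻¹ * ((h' * h)⁻¹ * ((h'⁻¹ * v * h') * (h' * h))) * x := by group
        _ = x⁻¹ * (h'⁻¹ * v * h') * x := by rw [← c2.eq, inv_mul_cancel_left]
        _ = _ := by group
    unfold S3
    rw [a1, a2]
  rw [← hS β' hβ', ← hS γ hγ, ← h1] at h2
  have hhc : Commute h β' := by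
    have h3 := hc'.mul_left (S.centralizer_commute_A hk' hβ')
    rwa [mul_self_cancel hD hh'] at h3
  have h4 := isW_mul_S3 hD hh hx hA (mul_mem hβ hβ') (hc.mul_right hhc)
  rwa [S3_mul hA _ hβ hβ', h2, hA.sq _ (S3_mem hA _ hβ), mul_one] at h4

/-- The conclusion from a central vector. -/
theorem twist_of_central_vector {c : G} (hc : c ∈ Subgroup.center G) (hcA : c ∈ S.A)
    (hw : IsW S.A d (α * c)) : Twist D E := by
  obtain ⟨d', hd', -, e⟩ := hw.eq_mul (group_of_class S.classD) S.elemA S.mem
  refine twist_of_mem S.classD S.classE S.memE hc (S.elemA.sq c hcA) ?_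
  rw [mul_assoc, (hw.commute_self S.elemA S.dd).eq, e, mul_assoc, S.dd, mul_one]
  exact hd'

/-- The case of a soluble normal subgroup acting non-trivially. -/
theorem twist_of_solvable [R.Normal] {N : Subgroup (G ⧸ Subgroup.centralizer (R : Set G))}
    [N.Normal] [Group.IsSolvable N] (hN : N ≠ ⊥) : Twist D E := by
  set K := Subgroup.centralizer (R : Set G) with hK
  set π := QuotientGroup.mk' K with hπ
  have hA := S.elemA
  have := hA.normal
  obtain ⟨p, hp, T, hTn, hT0, -, -, hTp, -, -⟩ :=
    Solvable.exists_minimal_normal_pGroup (N := N) hN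
  have : Fact p.Prime := ⟨hp⟩
  set T0 := T.comap π with hT0def
  have hT0n : T0.Normal := hTn.comap _
  have hTR : R ⊓ Subgroup.centralizer (T0 : Set G) = ⊥ := by
    rcases S.min (R ⊓ Subgroup.centralizer (T0 : Set G)) inferInstance inf_le_left with h | h
    · exact h
    · exfalso
      apply hT0
      rw [eq_bot_iff]
      intro t ht
      obtain ⟨g, rfl⟩ := QuotientGroup.mk'_surjective K t
      refine (QuotientGroup.eq_one_iff g).2 (Subgroup.mem_centralizer_iff.2 fun r hr => ?_)
      have h1 : r ∈ R ⊓ Subgroup.centralizer (T0 : Set G) := by rw [h]; exact hr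
      exact (Subgroup.mem_centralizer_iff.1 h1.2 g ht).symm
  -- the action on `A`
  have hkerA : K ≤ (MulAut.conjNormal : G →* MulAut S.A).ker := fun k hk =>
    MulEquiv.ext fun v => Subtype.ext (by
      rw [MulAut.conjNormal_apply, (S.centralizer_commute_A hk v.2).eq, mul_inv_cancel_right]
      rfl)
  set ψ := QuotientGroup.lift K (MulAut.conjNormal : G →* MulAut S.A) hkerA with hψdef
  have hψ : ∀ (g : G) (v : S.A), ((ψ (π g) v : S.A) : G) = g * v * g⁻¹ := fun g v =>
    MulAut.conjNormal_apply g v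
  by_cases hp2 : p = 2
  · exfalso
    subst hp2
    let θ : (G ⧸ K) →* MulAut R := QuotientGroup.lift K (MulAut.conjNormal : G →* MulAut R)
      (fun k hk => MulEquiv.ext fun v => Subtype.ext (by
        rw [MulAut.conjNormal_apply, ← Subgroup.mem_centralizer_iff.1 hk v v.2,
          mul_inv_cancel_right]
        rfl))
    letI : MulAction T R := MulAction.compHom R (θ.comp T.subtype)
    have hRne : R ≠ ⊥ := fun h => S.noncentral (h ▸ bot_le)
    have hR2 : IsPGroup 2 R := fun x => ⟨1, Subtype.ext (by simpa [pow_two] using S.sq2 x x.2)⟩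
    have hdvd : 2 ∣ Nat.card R := by
      obtain ⟨n, hn⟩ := IsPGroup.iff_card.1 hR2
      rcases n with _ | n
      · exact absurd (Subgroup.card_eq_one.1 (by simpa using hn)) hRne
      · rw [hn, pow_succ]; exact dvd_mul_left 2 _
    obtain ⟨r, hr, hr1⟩ := hTp.exists_fixed_point_of_prime_dvd_card_of_fixed_point R hdvd
      (a := (1 : R)) (fun t => map_one (θ (t : G ⧸ K)))
    have h1 : (r : G) ∈ R ⊓ Subgroup.centralizer (T0 : Set G) := by
      refine ⟨r.2, Subgroup.mem_centralizer_iff.2 fun g hg => ?_⟩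
      have h2 : g * (r : G) * g⁻¹ = r := by
        rw [← MulAut.conjNormal_apply]
        exact congrArg Subtype.val (hr ⟨π g, hg⟩)
      calc g * (r : G) = g * (r : G) * g⁻¹ * g := by group
        _ = _ := by rw [h2]
    rw [hTR, Subgroup.mem_bot] at h1
    exact hr1 (Subtype.ext h1.symm)
  -- the average over `T`
  letI : Fintype T := Fintype.ofFinite _
  letI : CommGroup S.A :=
    { (inferInstance : Group S.A) with mul_comm := fun a b => Subtype.ext (hA.comm a a.2 b b.2).eq }
  have hodd : Odd (Fintype.card T) := by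
    rw [← Nat.card_eq_fintype_card]
    obtain ⟨n, hn⟩ := IsPGroup.iff_card.1 hTp
    rw [hn]; exact (hp.odd_of_ne_two hp2).pow
  set α' : S.A := ⟨α, S.alpha_mem⟩
  set f : T → S.A := fun t => ψ t α'
  set c : S.A := ∏ t, f t with hcdef
  have hfixT : ∀ g ∈ T0, g * (c : G) * g⁻¹ = c := by
    intro g hg
    rw [← hψ, hcdef, map_prod]
    congr 1
    refine Fintype.prod_equiv (Equiv.mulLeft (⟨π g, hg⟩ : T)) _ _ fun t => ?_
    show ψ (π g) (ψ t α') = ψ (π g * t) α'
    rw [map_mul, MulAut.mul_apply]
  have hcR : (c : G) * α ∈ R := by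
    have hRn := S.normal
    set Rs := R.subgroupOf S.A
    have hf : ∀ t, QuotientGroup.mk' Rs (f t) = QuotientGroup.mk' Rs α' := by
      intro t
      obtain ⟨g, hg⟩ := QuotientGroup.mk'_surjective K (t : G ⧸ K)
      refine QuotientGroup.eq.2 (?_ : ((f t)⁻¹ * α' : S.A) ∈ Rs)
      rw [Subgroup.mem_subgroupOf, Subgroup.coe_mul, Subgroup.coe_inv, hA.inv_eq (f t).2,
        show ((f t : S.A) : G) = g * α * g⁻¹ by show ((ψ (t : G ⧸ K) α' : S.A) : G) = _; rw [← hg, hψ]]
      have h1 := S.cen g
      rwa [S.alpha_inv] at h1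
    have h1 : QuotientGroup.mk' Rs c = QuotientGroup.mk' Rs α' := by
      rw [hcdef, map_prod, Finset.prod_congr rfl fun t _ => hf t, Finset.prod_const,
        Finset.card_univ]
      obtain ⟨k, hk⟩ := hodd
      rw [hk, pow_succ, pow_mul, pow_two, ← map_mul,
        show α' * α' = 1 from Subtype.ext S.alpha_sq, map_one, one_pow, one_mul]
    have h2 : (c⁻¹ * α' : S.A) ∈ Rs := QuotientGroup.eq.1 h1
    rw [Subgroup.mem_subgroupOf, Subgroup.coe_mul, Subgroup.coe_inv, hA.inv_eq c.2] at h2
    exact h2
  have hcen : (c : G) ∈ Subgroup.center G := by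
    rw [Subgroup.mem_center_iff]
    intro g
    have hm : (c : G) * (g * c * g⁻¹) ∈ R ⊓ Subgroup.centralizer (T0 : Set G) := by
      refine ⟨S.conj_mul_mem g c.2, Subgroup.mem_centralizer_iff.2 fun t ht => ?_⟩
      have c0 : ∀ t ∈ T0, Commute t (c : G) := fun t ht => by
        show t * (c : G) = c * t
        calc t * (c : G) = t * c * t⁻¹ * t := by group
          _ = _ := by rw [hfixT t ht]
      have c2 : Commute t (g * c * g⁻¹) := by
        have h1 := (c0 _ (by simpa using hT0n.conj_mem t ht g⁻¹)).map (MulAut.conj g).toMonoidHom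
        simpa [mul_assoc] using h1
      exact ((c0 t ht).mul_right c2).eq
    rw [hTR, Subgroup.mem_bot] at hm
    have h1 := eq_inv_of_mul_eq_one_right hm
    rw [hA.inv_eq c.2] at h1
    exact mul_inv_eq_iff_eq_mul.1 h1
  refine S.twist_of_central_vector hcen c.2 ?_
  -- the average is congruent to `α` modulo commutators of `d`
  let W : Subgroup S.A :=
    { carrier := {v | IsW S.A d v}
      one_mem' := IsW.one S.A S.dd
      mul_mem' := fun hu hv => IsW.mul hA S.dd hu hv
      inv_mem' := fun {v} hv => by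
        show IsW S.A d ((v⁻¹ : S.A) : G)
        rw [Subgroup.coe_inv, hA.inv_eq v.2]; exact hv }
  set ρ := QuotientGroup.mk' W with hρdef
  have hρ : ∀ u v : S.A, IsW S.A d ((u : G) * v) → ρ u = ρ v := fun u v h =>
    QuotientGroup.eq.2 (by
      show IsW S.A d ((u⁻¹ * v : S.A) : G)
      rw [Subgroup.coe_mul, Subgroup.coe_inv, hA.inv_eq u.2]; exact h)
  have hsq : ∀ u, ρ u * ρ u = 1 := fun u => by
    rw [← map_mul, show u * u = 1 from Subtype.ext (hA.sq u u.2), map_one]
  set δ := π d with hδdef
  have hδ : δ * δ = 1 := by rw [hδdef, ← map_mul, S.dd, map_one]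
  let σ : T → T := fun t => ⟨δ * t * δ, by
    have := hTn.conj_mem t t.2 δ
    rwa [inv_eq_of_mul_eq_one_left hδ] at this⟩
  have hσσ : ∀ t, σ (σ t) = t := fun t => Subtype.ext (by
    show δ * (δ * t * δ) * δ = t
    simp only [mul_assoc, hδ, mul_one]
    rw [← mul_assoc, hδ, one_mul])
  have hfσ : ∀ t, ρ (f (σ t)) = ρ (f t) := by
    intro t
    refine hρ _ _ ?_
    have e : ((f (σ t) : S.A) : G) = d * (f t : G) * d := by
      show ((ψ (δ * t * δ) α' : S.A) : G) = _
      rw [map_mul, map_mul, MulAut.mul_apply, MulAut.mul_apply]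
      have e1 : ψ δ α' = α' := Subtype.ext (by
        rw [hδdef, hψ, S.commute_d_alpha.eq, mul_inv_cancel_right])
      rw [e1, hδdef, hψ, ThreeTrans.inv_eq S.classD.1 S.mem]
    rw [e, (hA.comm _ (hA.conj_mem' S.dd (f t).2) _ (f t).2).eq]
    exact ⟨_, (f t).2, rfl⟩
  have hfix : ∀ t, σ t = t → ρ (f t) = ρ α' := by
    intro t ht
    obtain ⟨g, hg⟩ := QuotientGroup.mk'_surjective K (t : G ⧸ K)
    refine (hρ α' (f t) ?_).symm
    have e : ((f t : S.A) : G) = g * α * g⁻¹ := by
      show ((ψ (t : G ⧸ K) α' : S.A) : G) = _; rw [← hg, hψ]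
    rw [e]
    refine S.isW_partner S.mem ((group_of_class S.classD).2.1 g d S.mem) ?_ S.alpha_mem
      (hA.conj_mem g S.alpha_mem) S.memE ?_ S.commute_d_alpha
      (S.commute_d_alpha.map (MulAut.conj g).toMonoidHom)
    · show δ = π (g * d * g⁻¹)
      have h1 : δ * π g * δ = π g := by rw [hg]; exact congrArg Subtype.val ht
      rw [map_mul, map_mul, map_inv, eq_mul_inv_iff_mul_eq]
      calc δ * π g = δ * π g * (δ * δ) := by rw [hδ, mul_one]
        _ = (δ * π g * δ) * δ := by simp only [mul_assoc]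
        _ = _ := by rw [h1]
    · have h1 := (group_of_class S.classE).2.1 g _ S.memE
      simpa [mul_assoc] using h1
  have hprod : ρ c = ρ α' := by
    have h1 : ∏ t : T, ρ (f t) * ρ α' = 1 := by
      refine Finset.prod_involution (fun t _ => σ t) (fun t _ => ?_) (fun t _ hne hst => hne ?_)
        (fun t _ => Finset.mem_univ _) (fun t _ => hσσ t)
      · rw [hfσ]
        have h := hsq (f t * α')
        rwa [map_mul] at h
      · rw [hfix t hst, hsq]
    rw [Finset.prod_mul_distrib, Finset.prod_const, Finset.card_univ, ← map_prod, ← hcdef] at h1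
    obtain ⟨k, hk⟩ := hodd
    rw [hk, pow_succ, pow_mul, pow_two, hsq, one_pow, one_mul] at h1
    rw [eq_inv_of_mul_eq_one_left h1, inv_eq_of_mul_eq_one_left (hsq α')]
  have h2 : IsW S.A d ((α'⁻¹ * c : S.A) : G) := QuotientGroup.eq.1 hprod.symm
  rwa [Subgroup.coe_mul, Subgroup.coe_inv, hA.inv_eq α'.2] at h2

/-- The case of a trivial radical. -/
theorem twist_of_trivialRadical [R.Normal]
    (hrad : TrivialRadical (G ⧸ Subgroup.centralizer (R : Set G))) : Twist D E := by
  set K := Subgroup.centralizer (R : Set G) with hK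
  set π := QuotientGroup.mk' K with hπ
  have hD := S.classD.1
  have hg := group_of_class S.classD
  have hA := S.elemA
  have hne : ∀ x ∈ D, π x ≠ 1 := fun x hx h => by
    obtain ⟨r, hr, hn⟩ := S.moveR hx
    exact hn (Subgroup.mem_centralizer_iff.1 ((QuotientGroup.eq_one_iff x).1 h) r hr).symm
  have hI := image_class π (QuotientGroup.mk'_surjective K) S.classD hne
  have h2I : ∃ a ∈ π '' D, ∃ b ∈ π '' D, a ≠ b := by
    by_contra hcon
    have hc : π d ∈ Subgroup.center (G ⧸ K) := commute_all_of_gen hI.2.2 fun b hb => by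
      rw [show b = π d from by_contra fun h => hcon ⟨b, hb, π d, ⟨d, S.mem, rfl⟩, h⟩]
    rw [center_eq_bot_of_trivialRadical hrad, Subgroup.mem_bot] at hc
    exact hne d S.mem hc
  obtain ⟨_, ⟨x, hx, rfl⟩, hndx⟩ := exists_not_commute hI h2I (d := π d) ⟨d, S.mem, rfl⟩
  have hn : ¬ Commute d x := fun h => hndx (h.map π)
  have h3 := pow_three_of_not_commute hD S.mem hx hn
  set g := d * x with hgdef
  set c := S3 g α with hc
  have hcA : c ∈ S.A := S3_mem hA g S.alpha_mem
  have hdc : Commute d c := commute_S3_left hD S.mem hx hA S.alpha_mem S.commute_d_alpha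
  have hxc : Commute x c := commute_S3_right hD S.mem hx hA h3 S.alpha_mem S.commute_d_alpha
  have hw : IsW S.A d (α * c) := isW_mul_S3 hD S.mem hx hA S.alpha_mem S.commute_d_alpha
  -- the neighbours of `d` centralise `c`
  have hadj : ∀ z ∈ D, π z ≠ π d → Commute (π z) (π d) → Commute z c := by
    intro z hz hzne hzc
    have hzd := commute_of_image π hD hz S.mem hzc hzne
    obtain ⟨γ, hγE, hγ, -, hzγ⟩ := S.partnerA hz
    have hcE := S.commute_partner S.mem hz S.alpha_mem hγ S.memE hγE hzd.symm
    have hzz := mul_self hD hz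
    have hsq := (commute_iff_sq S.classE.1 S.memE hγE).1 hcE
    set u := d * z with hu
    have huu : u * u = 1 := by
      have := (commute_iff_sq hD S.mem hz).1 hzd.symm
      rwa [pow_two] at this
    set v := z * α * z * γ with hv
    have hm1 := hA.conj_mem' hzz S.alpha_mem
    have hvA : v ∈ S.A := mul_mem hm1 hγ
    have e0 : d * α * (z * γ) = u * v := by
      rw [hu, hv]; simp only [mul_assoc, mul_self_cancel hD hz]
    rw [e0, pow_two] at hsq
    have e1 : u * v * u = v := by
      have e : u * v * u * v = 1 := by simpa [mul_assoc] using hsq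
      rw [eq_inv_of_mul_eq_one_left e, hA.inv_eq hvA]
    have e2 : u * v * u = α * (d * γ * d) := by
      have c1 : u = z * d := hzd.symm.eq
      calc u * v * u = d * (z * (z * α * z * γ) * z) * d := by
            rw [hv, hu]
            conv_lhs => arg 2; rw [hzd.symm.eq]
            simp only [mul_assoc]
        _ = d * (α * (z * γ * z)) * d := by
            simp only [mul_assoc, mul_self_cancel hD hz]
        _ = d * (α * γ) * d := by rw [hzγ.eq, mul_assoc γ z z, hzz, mul_one]
        _ = _ := by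
            rw [← mul_assoc d α γ, S.commute_d_alpha.eq]; simp only [mul_assoc]
    rw [e1, hv] at e2
    set p := α * (z * α * z) with hp
    have e3 : p = γ * (d * γ * d) := by
      have hm2 := hA.conj_mem' S.dd hγ
      calc p = α * ((z * α * z * γ) * γ) := by
            rw [hp, mul_assoc _ γ γ, hA.sq γ hγ, mul_one]
        _ = α * (α * (d * γ * d) * γ) := by rw [e2]
        _ = (α * α) * ((d * γ * d) * γ) := by simp only [mul_assoc]
        _ = _ := by rw [S.alpha_sq, one_mul, (hA.comm _ hm2 γ hγ).eq]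
    have hp1 : p = 1 := by
      refine IsW.eq_one_of_not_vRel hg hA S.mem hz (fun hv => hzne ?_) ⟨γ, hγ, e3⟩
        ⟨α, S.alpha_mem, hp⟩
      have hQ := S.core_le (mul_mem_pCore_two_of_vRel hD hg.2.1 S.mem hz hv)
      refine (QuotientGroup.eq.2 ?_).symm
      rwa [inv_eq hD S.mem]
    have hzα : Commute z α := by
      refine commute_of_conj_eq hD hz ?_
      have h : α * (z * α * z) = 1 := by rw [← hp]; exact hp1
      rw [eq_inv_of_mul_eq_one_right h, S.alpha_inv]
    have hzw : Commute z (α * c) := hw.commute_of_commute hg hA S.mem hz hzd.symm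
    have h1 := hzα.mul_right hzw
    rwa [← mul_assoc, S.alpha_sq, one_mul] at h1
  have hgc : Commute g c := hdc.mul_left hxc
  have hgd : g * d * g⁻¹ = x := by
    have hb := braid hD S.mem hx hn
    rw [hgdef, mul_inv_rev, inv_eq hD S.mem, inv_eq hD hx]
    calc d * x * d * (x * d) = (d * x * d) * (x * d) := rfl
      _ = x * d * x * (x * d) := by rw [hb]
      _ = _ := by simp only [mul_assoc, mul_self_cancel hD hx, mul_self_cancel hD S.mem, S.dd, mul_one]
  have hadjx : ∀ z ∈ D, π z ≠ π x → Commute (π z) (π x) → Commute z c := by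
    intro z hz hzne hzc
    have h1 : Commute (g⁻¹ * z * g) c := by
      have hmem : g⁻¹ * z * g ∈ D := by simpa using hg.2.1 g⁻¹ z hz
      refine hadj _ hmem (fun h => hzne ?_) ?_
      · have e : π z = π g * π (g⁻¹ * z * g) * (π g)⁻¹ := by simp [map_mul, map_inv, mul_assoc]
        rw [e, h, ← map_inv, ← map_mul, ← map_mul, hgd]
      · rw [← hgd] at hzc
        have h1 := hzc.map (MulAut.conj (π g)⁻¹).toMonoidHom
        simpa [map_mul, map_inv, mul_assoc] using h1
    have h2 := (hgc.mul_left h1).mul_left hgc.inv_left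
    have e : g * (g⁻¹ * z * g) * g⁻¹ = z := by group
    rwa [e] at h2
  set C := Subgroup.centralizer ({c} : Set G) with hC
  have hmemC : ∀ y, Commute y c → y ∈ C := fun y hy => Subgroup.mem_centralizer_singleton_iff.2 hy.eq
  have hofC : ∀ y ∈ C, Commute y c := fun y hy => Subgroup.mem_centralizer_singleton_iff.1 hy
  have horb := orbit_of_neighbourhoods hI h2I hrad (H := C.map π) (d := π d) (d' := π x)
    ⟨d, S.mem, rfl⟩ ⟨x, hx, rfl⟩ ⟨d, hmemC d hdc, rfl⟩ ⟨x, hmemC x hxc, rfl⟩
    (by
      rintro _ ⟨⟨z, hz, rfl⟩, hne', hc'⟩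
      exact ⟨z, hmemC z (hadj z hz hne' hc'.symm), rfl⟩)
    (by
      rintro _ ⟨⟨z, hz, rfl⟩, hne', hc'⟩
      exact ⟨z, hmemC z (hadjx z hz hne' hc'.symm), rfl⟩) hndx
  have hreach : ∀ z ∈ D, Reach (π '' D) (π d) (π z) → z ∈ C := by
    intro z hz hr
    obtain ⟨b, hb⟩ := adj_nonempty hI h2I hrad (d := π z) ⟨z, hz, rfl⟩
    obtain ⟨_, ⟨k, hk, rfl⟩, hke⟩ :=
      horb b (hr.trans (Relation.ReflTransGen.single ⟨⟨z, hz, rfl⟩, hb.1, hb.2.2⟩))
    have h1 : Commute (k⁻¹ * z * k) c := by
      have hmem : k⁻¹ * z * k ∈ D := by simpa using hg.2.1 k⁻¹ z hz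
      refine hadj _ hmem (fun h => hb.2.1 ?_) ?_
      · rw [← hke, ← h, map_mul, map_mul, map_inv]; group
      · have h1 := (hke ▸ hb.2.2).map (MulAut.conj (π k)⁻¹).toMonoidHom
        simpa [map_mul, map_inv, mul_assoc] using h1
    have hkc := hofC k hk
    have h2 := (hkc.mul_left h1).mul_left hkc.inv_left
    have e : k * (k⁻¹ * z * k) * k⁻¹ = z := by group
    rw [e] at h2
    exact hmemC z h2
  obtain ⟨L, hL, hLn⟩ := exists_layer_component hI h2I hrad
  set L0 := L.comap π with hL0
  have hL0n : L0.Normal := hLn.comap _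
  have hKC : K ≤ C := fun k hk => hmemC k (S.centralizer_commute_A hk hcA)
  have hLC : L0 ≤ C := by
    have h1 : L ≤ C.map π := (component_le_closure hI h2I hrad hL (d := π d) ⟨d, S.mem, rfl⟩).trans
      ((Subgroup.closure_le _).2 fun y hy => by
        obtain ⟨z, hz, rfl⟩ := Reach.mem (D := π '' D) (show π d ∈ π '' D from ⟨d, S.mem, rfl⟩) hy
        exact ⟨z, hreach z hz hy, rfl⟩)
    intro y hy
    obtain ⟨k, hk, hke⟩ := h1 hy
    have h2 : k⁻¹ * y ∈ K := QuotientGroup.eq.1 hke
    have h3 := C.mul_mem hk (hKC h2)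
    simpa using h3
  have hLR : R ⊓ Subgroup.centralizer (L0 : Set G) = ⊥ := by
    rcases S.min (R ⊓ Subgroup.centralizer (L0 : Set G)) inferInstance inf_le_left with h | h
    · exact h
    · exfalso
      refine component_not_central hL fun y hy => ?_
      obtain ⟨k, rfl⟩ := QuotientGroup.mk'_surjective K y
      have hk : k ∈ K := Subgroup.mem_centralizer_iff.2 fun r hr => by
        have h1 : r ∈ R ⊓ Subgroup.centralizer (L0 : Set G) := by rw [h]; exact hr
        exact (Subgroup.mem_centralizer_iff.1 h1.2 k hy).symm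
      have hk1 : π k = 1 := (QuotientGroup.eq_one_iff k).2 hk
      show π k ∈ _
      rw [hk1]
      exact one_mem _
  have hcen : c ∈ Subgroup.center G := by
    rw [Subgroup.mem_center_iff]
    intro k
    have hm : c * (k * c * k⁻¹) ∈ R ⊓ Subgroup.centralizer (L0 : Set G) := by
      refine ⟨S.conj_mul_mem k hcA, Subgroup.mem_centralizer_iff.2 fun t ht => ?_⟩
      have c2 : Commute t (k * c * k⁻¹) := by
        have h1 := (hofC _ (hLC (hL0n.conj_mem t ht k⁻¹))).map (MulAut.conj k).toMonoidHom
        simpa [mul_assoc] using h1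
      exact ((hofC t (hLC ht)).mul_right c2).eq
    rw [hLR, Subgroup.mem_bot] at hm
    have h1 := eq_inv_of_mul_eq_one_right hm
    rw [hA.inv_eq hcA] at h1
    exact mul_inv_eq_iff_eq_mul.1 h1
  exact S.twist_of_central_vector hcen hcA hw

/-- The step. -/
theorem twist : Twist D E := by
  have := S.normal
  by_cases hrad : TrivialRadical (G ⧸ Subgroup.centralizer (R : Set G))
  · exact S.twist_of_trivialRadical hrad
  · simp only [TrivialRadical, not_forall] at hrad
    obtain ⟨N, hN, hNsol, hN0⟩ := hrad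
    exact S.twist_of_solvable hN0

end Two

end Cfsg.Agent.ThreeTransUnique
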