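/-
Uniqueness of the generating class of 3-transpositions.

Main results:
* `twist_of_congruent` : two classes congruent modulo a soluble normal subgroup differ by a central
  element of order at most two
* `eq_of_elementary` : with trivial centre and `F*(G) = O₂(G)` elementary abelian the class is unique
-/
import Cfsg.Agent.Lib.ThreeTransUnique.Top
import Cfsg.Agent.Lib.ThreeTransUnique.TwoStep
import Cfsg.Agent.Lib.Solvable.Basic
import Cfsg.Agent.Lib.Components.GenFitting

namespace Cfsg.Agent.ThreeTransUnique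

open Cfsg Cfsg.Agent.ThreeTrans Cfsg.Agent.ThreeTransRank

universe u

/-- In a group with an abelian normal subgroup containing a member there is only one class. -/
theorem twist_of_mem_abelian {G : Type u} [Group G] {D E : Set G}
    (hD : IsThreeTranspositionClass D) (hE : IsThreeTranspositionClass E) {R : Subgroup G}
    [R.Normal] (hR : ∀ x ∈ R, ∀ y ∈ R, Commute x y)
    (h : (∃ x ∈ D, x ∈ R) ∨ ∃ x ∈ E, x ∈ R) : Twist D E := by
  have htop : R = ⊤ := by
    rcases h with ⟨x, hx, hxR⟩ | ⟨x, hx, hxR⟩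
    · exact normal_eq_top hD R hx hxR
    · exact normal_eq_top hE R hx hxR
  have hcomm : ∀ x y : G, Commute x y := fun x y =>
    hR x (htop ▸ Subgroup.mem_top x) y (htop ▸ Subgroup.mem_top y)
  obtain ⟨d, hd, -⟩ := id hD.2.1
  obtain ⟨a, ha, -⟩ := id hE.2.1
  have hDd : ∀ x ∈ D, x = d := fun x hx => by
    obtain ⟨g, rfl⟩ := class_conj hD hd hx
    rw [(hcomm g d).eq, mul_inv_cancel_right]
  have ha' : a ∈ Subgroup.zpowers d := by
    rw [Subgroup.zpowers_eq_closure]
    have : a ∈ Subgroup.closure D := by rw [hD.2.2]; exact Subgroup.mem_top a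
    exact Subgroup.closure_mono (fun x hx => hDd x hx) this
  refine twist_of_mem hD hE ha (one_mem _) (one_mul 1) ?_
  rw [mul_one]
  obtain ⟨n, rfl⟩ := Subgroup.mem_zpowers_iff.1 ha'
  rcases Int.even_or_odd n with ⟨k, hk⟩ | ⟨k, hk⟩
  · exfalso
    apply ne_one hE.1 ha
    rw [hk, zpow_add, ← (Commute.refl d).mul_zpow, mul_self hD.1 hd, one_zpow]
  · have e : d ^ n = d := by
      rw [hk, zpow_add, zpow_mul, zpow_one, show (2 : ℤ) = 1 + 1 from rfl, zpow_add, zpow_one,
        mul_self hD.1 hd, one_zpow, one_mul]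
    rwa [e]

/-- Two classes congruent modulo a soluble normal subgroup differ by a central element. -/
theorem twist_of_congruent : ∀ n : ℕ, ∀ (G : Type u) [Group G] [Finite G], Nat.card G = n →
    ∀ (D E : Set G) (S : Subgroup G) [S.Normal] [Group.IsSolvable S],
      IsThreeTranspositionClass D → IsThreeTranspositionClass E →
      (∀ a ∈ E, ∃ d ∈ D, d⁻¹ * a ∈ S) → Twist D E := by
  intro n
  induction n using Nat.strong_induction_on with
  | _ n ih =>
    intro G _ _ hn D E S _ _ hD hE hcong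
    by_cases hS : S = ⊥
    · refine ⟨1, one_mem _, one_mul 1, fun a ha => ?_⟩
      obtain ⟨d, hd, h⟩ := hcong a ha
      rw [hS, Subgroup.mem_bot, inv_mul_eq_one] at h
      rw [mul_one, ← h]; exact hd
    obtain ⟨p, hp, R, hRn, hR0, hRS, hRc, -, hexp, hmin⟩ :=
      Solvable.exists_minimal_normal_pGroup (N := S) hS
    have hcommR : ∀ x ∈ R, ∀ y ∈ R, Commute x y := fun x hx y hy =>
      congrArg Subtype.val (hRc.1.comm ⟨x, hx⟩ ⟨y, hy⟩)
    by_cases hout : (∃ x ∈ D, x ∈ R) ∨ ∃ x ∈ E, x ∈ R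
    · exact twist_of_mem_abelian hD hE hcommR hout
    rw [not_or] at hout
    have hDout : ∀ x ∈ D, x ∉ R := fun x hx h => hout.1 ⟨x, hx, h⟩
    have hEout : ∀ x ∈ E, x ∉ R := fun x hx h => hout.2 ⟨x, hx, h⟩
    set q := QuotientGroup.mk' R with hq
    have hsurj : Function.Surjective q := QuotientGroup.mk'_surjective R
    have hDq := image_class q hsurj hD fun x hx h => hDout x hx ((QuotientGroup.eq_one_iff x).1 h)
    have hEq := image_class q hsurj hE fun x hx h => hEout x hx ((QuotientGroup.eq_one_iff x).1 h)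
    have hSn : (S.map q).Normal := Subgroup.Normal.map inferInstance q hsurj
    have hSs : Group.IsSolvable ↥(S.map q) :=
      Group.isSolvable_of_surjective (q.subgroupMap_surjective S)
    have hlt : Nat.card (G ⧸ R) < n := hn ▸ Solvable.card_quotient_lt hR0
    obtain ⟨zb, hzb, hzb2, hz⟩ := ih _ hlt (G ⧸ R) rfl (q '' D) (q '' E) (S.map q) hDq hEq (by
      rintro _ ⟨a, ha, rfl⟩
      obtain ⟨d, hd, h⟩ := hcong a ha
      exact ⟨q d, ⟨d, hd, rfl⟩, ⟨d⁻¹ * a, h, by rw [map_mul, map_inv]⟩⟩)
    obtain ⟨a, ha, -⟩ := id hE.2.1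
    obtain ⟨d, hd, hde⟩ := hz (q a) ⟨a, ha, rfl⟩
    set α := d * a with hα
    have hqα : q α = zb := by
      rw [hα, map_mul, hde, mul_assoc, ← Subgroup.mem_center_iff.1 hzb (q a), ← mul_assoc,
        ← map_mul, mul_self hE.1 ha, map_one, one_mul]
    have hstep : Step D E R d α := by
      refine ⟨hD, hE, hRn, hcommR, hmin, hd, ?_, fun g => ?_, ?_, hDout, hEout⟩
      · rw [hα, mul_self_cancel hD.1 hd]; exact ha
      · refine (QuotientGroup.eq_one_iff _).1 (show q _ = 1 from ?_)
        rw [map_mul, map_mul, map_mul, map_inv, map_inv, hqα, Subgroup.mem_center_iff.1 hzb (q g),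
          mul_inv_cancel_right, mul_inv_cancel]
      · refine (QuotientGroup.eq_one_iff _).1 (show q _ = 1 from ?_)
        rw [map_mul, hqα, hzb2]
    by_cases hp2 : p = 2
    · by_cases hc : R ≤ Subgroup.center G
      · exact hstep.twist_of_central hc
      · refine Two.twist ⟨hstep, fun r hr => ?_, hc⟩
        have := hexp r hr
        rwa [hp2, pow_two] at this
    · exact hstep.twist_of_odd (hp.odd_of_ne_two hp2) hexp

theorem exists_radical (G : Type u) [Group G] [Finite G] :
    ∃ S : Subgroup G, ∃ _ : S.Normal, Group.IsSolvable S ∧ TrivialRadical (G ⧸ S) ∧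
      ∀ N : Subgroup G, N.Normal → Group.IsSolvable N → N ≤ S := by
  obtain ⟨S, ⟨hSn, hSs⟩, hmax⟩ := wellFounded_gt.has_min
    {N : Subgroup G | N.Normal ∧ Group.IsSolvable N} ⟨⊥, inferInstance, inferInstance⟩
  have hle : ∀ N : Subgroup G, N.Normal → Group.IsSolvable N → N ≤ S := by
    intro N hN hNs
    by_contra h
    refine hmax (S ⊔ N) ⟨Subgroup.sup_normal S N, Solvable.isSolvable_sup S N⟩ ?_
    exact lt_of_le_of_ne le_sup_left fun e => h (e ▸ le_sup_right)
  refine ⟨S, hSn, hSs, fun M hM hMs => ?_, hle⟩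
  set q := QuotientGroup.mk' S
  have hsol : Group.IsSolvable ↥(M.comap q) := by
    refine Group.isSolvable_of_ker_le_range
      (Subgroup.inclusion (show S ≤ M.comap q from fun x hx => by
        rw [Subgroup.mem_comap, show q x = 1 from (QuotientGroup.eq_one_iff x).2 hx]
        exact one_mem _)) (q.subgroupComap M) ?_
    rintro ⟨x, hx⟩ h
    have hxS : x ∈ S := (QuotientGroup.eq_one_iff x).1 (congrArg Subtype.val h)
    exact ⟨⟨x, hxS⟩, rfl⟩
  rw [eq_bot_iff]
  intro m hm
  obtain ⟨g, rfl⟩ := QuotientGroup.mk'_surjective S m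
  exact (QuotientGroup.eq_one_iff g).2 (hle _ (hM.comap q) hsol hm)

/-- With trivial centre and `F*(G) = O₂(G)` elementary abelian the class is unique. -/
theorem eq_of_elementary {G : Type u} [Group G] [Finite G] {D E : Set G}
    (hD : IsThreeTranspositionClass D) (hE : IsThreeTranspositionClass E)
    (hZ : Subgroup.center G = ⊥) (hF : generalizedFittingSubgroup G = pCore 2 G)
    (hV : IsElementaryAbelian 2 (pCore 2 G)) : E = D := by
  obtain ⟨S, hSn, hSs, hrad, hle⟩ := exists_radical G
  have : Fact (Nat.Prime 2) := ⟨Nat.prime_two⟩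
  have hVs : Group.IsSolvable ↥(pCore 2 G) := by
    have := (Cores.isPGroup_pCore 2 G).isNilpotent
    infer_instance
  have hcore : pCore 2 G ≤ S := hle _ inferInstance hVs
  set π := QuotientGroup.mk' S
  have hcong : ∀ a ∈ E, ∃ d ∈ D, d⁻¹ * a ∈ S := by
    intro a ha
    by_cases hout : (∃ x ∈ D, x ∈ S) ∨ ∃ x ∈ E, x ∈ S
    · obtain ⟨d, hd, -⟩ := id hD.2.1
      refine ⟨d, hd, ?_⟩
      rcases hout with ⟨x, hx, hxS⟩ | ⟨x, hx, hxS⟩
      · rw [normal_eq_top hD S hx hxS]; exact Subgroup.mem_top _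
      · rw [normal_eq_top hE S hx hxS]; exact Subgroup.mem_top _
    rw [not_or] at hout
    have hset : Setting π D E (pCore 2 G) := by
      refine ⟨hD, hE, ⟨inferInstance, fun x hx y hy => congrArg Subtype.val
        (hV.1.1.comm ⟨x, hx⟩ ⟨y, hy⟩), fun x hx => by simpa [pow_two] using hV.2 x hx⟩,
        QuotientGroup.mk'_surjective S, hrad, by rwa [QuotientGroup.ker_mk'],
        fun x hx h => hout.1 ⟨x, hx, (QuotientGroup.eq_one_iff x).1 h⟩,
        fun x hx h => hout.2 ⟨x, hx, (QuotientGroup.eq_one_iff x).1 h⟩, fun x hx => ?_⟩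
      by_contra h
      have h1 : x ∈ Subgroup.centralizer (generalizedFittingSubgroup G : Set G) := by
        rw [hF]
        exact Subgroup.mem_centralizer_iff.2 fun r hr =>
          (by_contra fun hne => h ⟨r, hr, fun hc => hne hc.symm.eq⟩)
      have h2 := Components.centralizer_genFitting_le h1
      rw [hF] at h2
      exact hout.1 ⟨x, hx, hcore h2⟩
    obtain ⟨d, hd, e⟩ := hset.exists_eq ha
    exact ⟨d, hd, QuotientGroup.eq.1 e⟩
  obtain ⟨z, hz, -, h⟩ := twist_of_congruent _ G rfl D E S hD hE hcong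
  rw [hZ, Subgroup.mem_bot] at hz
  have hsub : E ⊆ D := fun a ha => by simpa [hz] using h a ha
  refine hsub.antisymm fun x hx => ?_
  obtain ⟨a, ha, -⟩ := id hE.2.1
  obtain ⟨g, rfl⟩ := class_conj hD (hsub ha) hx
  exact (group_of_class hE).2.1 g a ha

end Cfsg.Agent.ThreeTransUnique
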